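import Groth.Agent.IsoNatLib.Chart.Star

/-!
# Objects twisted by a family of automorphisms on the common overlap of many charts
-/

set_option autoImplicit false
set_option linter.style.haveILetI false
set_option backward.isDefEq.respectTransparency false
set_option backward.isDefEq.respectTransparency.types false

universe u

open CategoryTheory CategoryTheory.Limits AlgebraicGeometry Opposite FibCat
open Groth.Agent.Stk19 Groth.Agent.Desc19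

namespace Groth.Agent.IsoNatLib.Chart

variable {S : Scheme.{u}} {𝒳 : AlgSt.Cat S}

open Classical in
/-- Copies of an object glued by automorphisms over the overlap. -/
theorem exists_star_twist (hS : Stk.IsStack (AlgSp.J S) 𝒳) {κ : Type u} (k₀ : κ) {P : Over S} {η zL zW : 𝒳.obj}
    (π : P ⟶ 𝒳.p.obj η) (ι : κ → (𝒳.p.obj zL ⟶ P)) (ν : zL ⟶ η) (w : zW ⟶ zL)
    (hι : ∀ k, ι k ≫ π = 𝒳.p.map ν) (hD : Star (𝒳.p.map w) P ι)
    (v : κ → (zW ⟶ zW)) (hv : ∀ k, 𝒳.p.map (v k) = 𝟙 _) :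
    ∃ (x : 𝒳.obj) (hx : 𝒳.p.obj x = P) (μ : κ → (zL ⟶ x)), (∀ k, 𝒳.p.map (μ k) = ι k ≫ eqToHom hx.symm) ∧
      ∀ k k', v k ≫ w ≫ μ k = v k' ≫ w ≫ μ k' := by
  let R := Sieve.ofArrows (fun _ : κ => 𝒳.p.obj zL) ι
  haveI := hD.mono
  haveI := hD.mono_j
  let Lift : (Stk.sieveCat R).obj → κ → Prop := fun a s => ∃ l, l ≫ ι s = a.obj.hom
  let Has : (Stk.sieveCat R).obj → Prop := fun a => ∃ l, l ≫ 𝒳.p.map w ≫ ι k₀ = a.obj.hom
  have hside : ∀ a, ∃ s, Lift a s := fun a => by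
    obtain ⟨k, g, hg⟩ := (Sieve.mem_ofArrows_iff _ _ a.obj.hom).1 a.property
    exact ⟨k, g, hg.symm⟩
  choose side hs using hside
  have hboth : ∀ a s t, s ≠ t → Lift a s → Lift a t → Has a := fun a s t hst ⟨l, hl⟩ ⟨m, hm⟩ =>
    ⟨(hD.sq s t hst).lift l m (hl.trans hm.symm), by
      rw [hD.w k₀ s, (hD.sq s t hst).lift_fst_assoc]; exact hl⟩
  have hdown : ∀ {a b : (Stk.sieveCat R).obj} (φ : a ⟶ b) s, Lift b s → Lift a s := fun φ s ⟨l, hl⟩ =>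
    ⟨φ.hom.left ≫ l, by rw [Category.assoc, hl]; exact Over.w φ.hom⟩
  choose d ρ ed hρ using fun a : (Stk.sieveCat R).obj => fibGrpd_lift hS.1 η (a.obj.hom ≫ π)
  -- the twist on an object over the overlap
  have hχ : ∀ a, Has a → ∀ s : κ, ∃ χ : d a ⟶ d a, 𝒳.p.map χ = 𝟙 _ ∧ IsIso χ ∧
      ∀ q : d a ⟶ zW, q ≫ w ≫ ν = ρ a → 𝒳.p.map q ≫ 𝒳.p.map w ≫ ι k₀ = eqToHom (ed a) ≫ a.obj.hom →
        χ ≫ ρ a = q ≫ v s ≫ w ≫ ν := by
    rintro a ⟨l, hl⟩ s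
    obtain ⟨κ₀, ⟨hκm, hκ⟩, -⟩ := fibGrpd_fac hS.1 (w ≫ ν) (ρ a) (eqToHom (ed a) ≫ l) (by
      rw [𝒳.p.map_comp, ← hι k₀, Category.assoc, hρ, ← hl]
      simp only [Category.assoc])
    obtain ⟨χ, ⟨hχm, hχ⟩, -⟩ := fibGrpd_fac hS.1 (ρ a) (κ₀ ≫ v s ≫ w ≫ ν) (𝟙 _) (by
      rw [← hκ]
      simp only [𝒳.p.map_comp, hv, Category.id_comp])
    have : IsIso (𝒳.p.map χ) := by rw [hχm]; infer_instance
    refine ⟨χ, hχm, fibGrpd_isIso hS.1 _, fun q h1 h2 => ?_⟩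
    have hk : q = κ₀ := by
      refine fibGrpd_ext hS.1 (w ≫ ν) ((cancel_mono (𝒳.p.map w ≫ ι k₀)).1 ?_) (h1.trans hκ.symm)
      rw [h2, hκm, Category.assoc, hl]
    rw [hk, hχ]
  choose χ hχm hχi hχ using hχ
  haveI := hχi
  let τ : ∀ a, κ → κ → (d a ⟶ d a) := fun a s t =>
    if h : Has a then inv (χ a h s) ≫ χ a h t else 𝟙 _
  have hτm : ∀ a s t, 𝒳.p.map (τ a s t) = 𝟙 _ := fun a s t => by
    simp only [τ]
    split_ifs with h
    · rw [𝒳.p.map_comp, Functor.map_inv]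
      simp [hχm a h]
    · exact 𝒳.p.map_id _
  have hcoc : ∀ a s t r, τ a s t ≫ τ a t r = τ a s r := fun a s t r => by
    by_cases h : Has a <;> simp [τ, h]
  have hrefl : ∀ a s, τ a s s = 𝟙 _ := fun a s => by by_cases h : Has a <;> simp [τ, h]
  -- naturality of the twist
  have hnat : ∀ {a b : (Stk.sieveCat R).obj} (φ : a ⟶ b) (g₀ : d a ⟶ d b),
      𝒳.p.map g₀ = eqToHom (ed a) ≫ φ.hom.left ≫ eqToHom (ed b).symm → g₀ ≫ ρ b = ρ a →
      ∀ s t, Lift b s → Lift b t → τ a s t ≫ g₀ = g₀ ≫ τ b s t := by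
    intro a b φ g₀ hg hgρ s t hbs hbt
    by_cases hst : s = t
    · subst hst
      rw [hrefl, hrefl, Category.id_comp, Category.comp_id]
    have hb : Has b := hboth b s t hst hbs hbt
    have ha : Has a := ⟨φ.hom.left ≫ hb.choose, by
      rw [Category.assoc, hb.choose_spec]; exact Over.w φ.hom⟩
    have key : ∀ s, χ a ha s ≫ g₀ = g₀ ≫ χ b hb s := fun s => by
      refine fibGrpd_ext hS.1 (ρ b) (by rw [𝒳.p.map_comp, 𝒳.p.map_comp, hχm, hχm]; simp) ?_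
      obtain ⟨q, ⟨hqm, hq⟩, -⟩ := fibGrpd_fac hS.1 (w ≫ ν) (ρ b) (eqToHom (ed b) ≫ hb.choose) (by
        rw [𝒳.p.map_comp, ← hι k₀, Category.assoc, hρ, ← Category.assoc hb.choose, ← Category.assoc (hb.choose ≫ _),
          Category.assoc hb.choose, hb.choose_spec])
      have hq2 : 𝒳.p.map q ≫ 𝒳.p.map w ≫ ι k₀ = eqToHom (ed b) ≫ b.obj.hom := by
        rw [hqm, Category.assoc, hb.choose_spec]
      rw [Category.assoc, hgρ, Category.assoc, hχ b hb s q hq hq2,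
        hχ a ha s (g₀ ≫ q) (by rw [Category.assoc, hq, hgρ]) (by
          rw [𝒳.p.map_comp, hg, Category.assoc, hq2]
          simp), Category.assoc]
    simp only [τ, dif_pos ha, dif_pos hb]
    rw [Category.assoc, key t, IsIso.inv_comp_eq, ← Category.assoc, ← Category.assoc, key s]
    simp
  -- the descent datum
  have hfac : ∀ {a b : (Stk.sieveCat R).obj} (φ : a ⟶ b), ∃! g : d a ⟶ d b,
      𝒳.p.map g = eqToHom (ed a) ≫ φ.hom.left ≫ eqToHom (ed b).symm ∧ g ≫ ρ b = ρ a := fun {a b} φ =>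
    fibGrpd_fac hS.1 (ρ b) (ρ a) (eqToHom (ed a) ≫ φ.hom.left ≫ eqToHom (ed b).symm) (by
      rw [hρ, hρ]
      simp only [Category.assoc, eqToHom_trans_assoc, eqToHom_refl, Category.id_comp]
      rw [← Category.assoc φ.hom.left]
      exact congrArg (fun k => eqToHom (ed a) ≫ k ≫ π) (Over.w φ.hom))
  choose g₀ hg₀ hg₀u using @hfac
  have g₀id : ∀ a, g₀ (𝟙 a) = 𝟙 _ := fun a =>
    (hg₀u (𝟙 a) _ ⟨by rw [𝒳.p.map_id]; change 𝟙 _ = eqToHom _ ≫ 𝟙 a.obj.left ≫ eqToHom _; simp,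
      Category.id_comp _⟩).symm
  have g₀comp : ∀ {a b c : (Stk.sieveCat R).obj} (φ : a ⟶ b) (ψ : b ⟶ c), g₀ (φ ≫ ψ) = g₀ φ ≫ g₀ ψ :=
    fun φ ψ => (hg₀u (φ ≫ ψ) _ ⟨by
      rw [𝒳.p.map_comp, (hg₀ φ).1, (hg₀ ψ).1]
      rw [show (φ ≫ ψ).hom.left = φ.hom.left ≫ ψ.hom.left from rfl]
      simp,
      by rw [Category.assoc, (hg₀ ψ).2, (hg₀ φ).2]⟩).symm
  let D₀ : (Stk.sieveCat R).obj ⥤ 𝒳.obj :=
    { obj := d
      map := fun {a b} φ => τ a (side a) (side b) ≫ g₀ φ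
      map_id := fun a => by simp only [hrefl, g₀id, Category.id_comp]
      map_comp := fun {a b c} φ ψ => by
        have hn := hnat φ (g₀ φ) (hg₀ φ).1 (hg₀ φ).2 (side b) (side c) (hs b) (hdown ψ _ (hs c))
        simp only [g₀comp, Category.assoc]
        rw [← Category.assoc (g₀ φ) (τ b _ _), ← hn, Category.assoc, ← Category.assoc (τ a _ _) (τ a _ _),
          hcoc] }
  let D : Stk.sieveCat R ⥤ᵇ 𝒳 :=
    { toFunctor := D₀
      w := CategoryTheory.Functor.ext ed (fun a b φ => by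
        show 𝒳.p.map (τ a _ _ ≫ g₀ φ) = _
        rw [𝒳.p.map_comp, hτm, Category.id_comp, (hg₀ φ).1]
        rfl) }
  obtain ⟨x, hx, θ, hθ, hθn⟩ := ((isStackFor_iff_glue hS.1 R).1 (hS.2 R hD.cover)).2 D
  have hθn' : ∀ {a b : (Stk.sieveCat R).obj} (φ : a ⟶ b), (τ a (side a) (side b) ≫ g₀ φ) ≫ θ b = θ a :=
    fun φ => hθn _ _ φ
  let A : κ → (Stk.sieveCat R).obj := fun s => ⟨Over.mk (ι s), Sieve.ofArrows_mk _ _ s⟩
  have hA : ∀ s, Lift (A s) s := fun s => ⟨𝟙 _, Category.id_comp _⟩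
  choose ω hω _ using fun s : κ => fibGrpd_fac hS.1 (ρ (A s)) ν (eqToHom (ed (A s)).symm) (by
    rw [hρ]
    simp only [A, Over.mk_hom, eqToHom_trans_assoc, eqToHom_refl, Category.id_comp]
    exact hι s)
  refine ⟨x, hx, fun s => ω s ≫ τ (A s) s (side (A s)) ≫ θ (A s), fun s => ?_, ?_⟩
  · rw [𝒳.p.map_comp, 𝒳.p.map_comp, (hω s).1, hτm, hθ]
    simp [A, D, D₀]
  let aW : (Stk.sieveCat R).obj := ⟨Over.mk (𝒳.p.map w ≫ ι k₀),
    R.downward_closed (Sieve.ofArrows_mk _ _ k₀) (𝒳.p.map w)⟩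
  obtain ⟨q, ⟨hqm, hq⟩, -⟩ := fibGrpd_fac hS.1 (ρ aW) (w ≫ ν) (eqToHom (ed aW).symm) (by
    rw [hρ, 𝒳.p.map_comp, ← hι k₀]
    simp [aW])
  have hw : ∀ s, w ≫ ω s ≫ τ (A s) s (side (A s)) ≫ θ (A s) = q ≫ τ aW s (side aW) ≫ θ aW := by
    intro s
    let φ : aW ⟶ A s := ObjectProperty.homMk (Over.homMk (𝒳.p.map w) (hD.w s k₀))
    have e1 : w ≫ ω s = q ≫ g₀ φ := by
      refine fibGrpd_ext hS.1 (ρ (A s)) ?_ ?_
      · rw [𝒳.p.map_comp, 𝒳.p.map_comp, (hω s).1, hqm, (hg₀ φ).1]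
        simp [φ]
      · rw [Category.assoc, (hω s).2, Category.assoc, (hg₀ φ).2, hq]
    rw [reassoc_of% e1]
    have hn := hnat φ (g₀ φ) (hg₀ φ).1 (hg₀ φ).2 s (side (A s)) (hA s) (hs (A s))
    rw [← Category.assoc (g₀ φ), ← hn, Category.assoc, ← hθn' φ]
    simp only [Category.assoc]
    rw [← Category.assoc (τ aW s (side aW)), hcoc]
  have hW : Has aW := ⟨𝟙 _, Category.id_comp _⟩
  have hqi : IsIso q := by
    have : IsIso (𝒳.p.map q) := by rw [hqm]; infer_instance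
    exact fibGrpd_isIso hS.1 _
  have hvi : ∀ s, IsIso (v s) := fun s => by
    have : IsIso (𝒳.p.map (v s)) := by rw [hv]; infer_instance
    exact fibGrpd_isIso hS.1 _
  have e3 : ∀ s, v s ≫ q = q ≫ χ aW hW s := fun s => by
    refine fibGrpd_ext hS.1 (ρ aW) (by rw [𝒳.p.map_comp, 𝒳.p.map_comp, hχm, hv, hqm]; simp) ?_
    rw [Category.assoc, hq, Category.assoc, hχ aW hW s (inv q) (by rw [IsIso.inv_comp_eq, hq])
      (by rw [Functor.map_inv]; simp [hqm, aW]), IsIso.hom_inv_id_assoc]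
  have e4 : ∀ s, v s ≫ q ≫ τ aW s (side aW) = q ≫ χ aW hW (side aW) := fun s => by
    rw [reassoc_of% (e3 s)]
    simp [τ, dif_pos hW]
  intro k k'
  rw [hw, hw, reassoc_of% (e4 k), reassoc_of% (e4 k')]

end Groth.Agent.IsoNatLib.Chart
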