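import Groth.Agent.IsoNatLib.Chart.TransferUnram
import Groth.Agent.Stk19.AlgSt.Diag
import Groth.Agent.AlgSpLib.EtLocalInst
import Groth.Agent.AlgSpLib.LocPMore

/-!
# Smooth, unramified, etale and locally finitely presented charts under an isomorphism of classes
-/

set_option autoImplicit false
set_option linter.style.haveILetI false
set_option backward.isDefEq.respectTransparency false
set_option backward.isDefEq.respectTransparency.types false

universe u

open CategoryTheory CategoryTheory.Limits AlgebraicGeometry Opposite FibCat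
open Groth.Agent.Stk19 Groth.Agent.Desc19 Groth.Agent.IsoNatLib.Twist

namespace Groth.Agent.IsoNatLib.Chart

variable {S : Scheme.{u}} {𝒳 𝒴 : AlgSt.Cat S}

/-- A quasi-separated algebraic stack with locally finitely presented inertia. -/
structure Good (𝒳 : AlgSt.Cat S) : Prop where
  alg : AlgSt.IsAlgStack Scheme.fppfPrecoverage 𝒳
  diag : AlgSt.RepByAlgSpWith (AlgSp.IsSeparatedMor ⊓ AlgSp.IsQuasiCompactMor) (FibCat.diag (toSelf 𝒳))
  inertia : AlgSt.RepByAlgSpWith (AlgSp.LocP @LocallyOfFinitePresentation) (inertiaToBase (toSelf 𝒳))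

theorem Good.sep (h : Good 𝒳) : AlgSt.RepByAlgSpWith AlgSp.IsSeparatedMor (FibCat.diag (toSelf 𝒳)) :=
  repByAlgSpWith_mono (fun _ _ _ _ h => h.1) h.diag

theorem Good.rep1 (h : Good 𝒳) {U : Over S} (x : overCat U ⥤ᵇ 𝒳) : AlgSt.RepByAlgSp1 x :=
  repByAlgSp1_of_diag h.alg.isStack.1 (repByAlgSp1_of_with h.diag) (repByAlgSp_overCat U) x

variable {U : Over S} {x : overCat U ⥤ᵇ 𝒳} {y : overCat U ⥤ᵇ 𝒴}

theorem lfp_transfer (hX : Good 𝒳) (hY : Good 𝒴) (φ : IsoNat.FIso 𝒳 𝒴)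
    (hxy : φ.toEquiv U (IsoNat.objCls x) = IsoNat.objCls y)
    (hx : AlgSt.RepByAlgSpWith (AlgSp.LocP @LocallyOfFinitePresentation) x) :
    AlgSt.RepByAlgSpWith (AlgSp.LocP @LocallyOfFinitePresentation) y :=
  lfp_of_limLifts hY.alg.isStack.1 (hY.rep1 y)
    (limLifts_transfer (ξ := ⟨gen x, gen_base x⟩) (η := ⟨gen y, gen_base y⟩) hX.alg.isStack.1 hY.alg.isStack.1
      (autLim_of_inertia hY.alg.isStack.1 hY.inertia) φ hxy (limLifts_of_lfp hX.alg.isStack.1 hx))

theorem smooth_transfer (hX : Good 𝒳) (hY : Good 𝒴) (φ : IsoNat.FIso 𝒳 𝒴)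
    (hxy : φ.toEquiv U (IsoNat.objCls x) = IsoNat.objCls y)
    (hx : AlgSt.RepByAlgSpWith (AlgSp.LocP @Smooth) x) : AlgSt.RepByAlgSpWith (AlgSp.LocP @Smooth) y :=
  smooth_of_lifts hY.alg.isStack.1
    (lfp_transfer hX hY φ hxy (repByAlgSpWith_mono (fun _ _ _ _ h => AlgSpLib.locP_mono
      (fun _ _ f hf => haveI : Smooth f := hf; inferInstanceAs (LocallyOfFinitePresentation f)) h) hx))
    (lifts_transfer (ξ := ⟨gen x, gen_base x⟩) (η := ⟨gen y, gen_base y⟩) hX.alg.isStack hY.alg.isStack hY.sep φ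
      hxy (lifts_of_smooth hX.alg.isStack.1 hx))

theorem unramified_transfer (hX : Good 𝒳) (hY : Good 𝒴) (φ : IsoNat.FIso 𝒳 𝒴)
    (hxy : φ.toEquiv U (IsoNat.objCls x) = IsoNat.objCls y)
    (hfp : AlgSt.RepByAlgSpWith (AlgSp.LocP @LocallyOfFinitePresentation) x)
    (hx : AlgSt.RepByAlgSpWith (AlgSp.LocP (@LocallyOfFiniteType ⊓ @FormallyUnramified)) x) :
    AlgSt.RepByAlgSpWith (AlgSp.LocP (@LocallyOfFiniteType ⊓ @FormallyUnramified)) y :=
  unramified_of_tangRig hY.alg.isStack.1 (lfp_transfer hX hY φ hxy hfp)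
    (tangRig_transfer (ξ := ⟨gen x, gen_base x⟩) (η := ⟨gen y, gen_base y⟩) hX.alg.isStack hY.alg.isStack hX.sep
      hY.sep φ hxy (rig_of_unramified hX.alg.isStack.1 hx))

theorem etale_transfer (hX : Good 𝒳) (hY : Good 𝒴) (φ : IsoNat.FIso 𝒳 𝒴)
    (hxy : φ.toEquiv U (IsoNat.objCls x) = IsoNat.objCls y)
    (hfp : AlgSt.RepByAlgSpWith (AlgSp.LocP @LocallyOfFinitePresentation) x)
    (hx : AlgSt.RepByAlgSpWith AlgSp.IsEtaleMor x) : AlgSt.RepByAlgSpWith AlgSp.IsEtaleMor y := by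
  have he : AlgSt.RepByAlgSpWith (AlgSp.LocP @Etale) x := repByAlgSpWith_mono
    (fun _ U a hX' h => (AlgSpLib.isEtaleMor_iff_locP AlgSpLib.etLocal_etale hX' (AlgSp.IsAlgSpace.yon_obj U) a).1 h) hx
  have hs := smooth_transfer hX hY φ hxy (repByAlgSpWith_mono (fun _ _ _ _ h => AlgSpLib.locP_mono
    (fun _ _ f hf => haveI : Etale f := hf; inferInstanceAs (Smooth f)) h) he)
  have hu := unramified_transfer hX hY φ hxy hfp (repByAlgSpWith_mono (fun _ _ _ _ h => AlgSpLib.locP_mono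
    (fun _ _ f hf => haveI : Etale f := hf; ⟨inferInstanceAs (LocallyOfFiniteType f), inferInstanceAs (FormallyUnramified f)⟩) h) he)
  refine repByAlgSpWith_mono (fun _ U a hX' h => ?_)
    (repByAlgSpWith_and (respSrc_locP AlgSpLib.etLocal_unramified) hs hu)
  refine (AlgSpLib.isEtaleMor_iff_locP AlgSpLib.etLocal_etale hX' (AlgSp.IsAlgSpace.yon_obj U) a).2 ?_
  refine AlgSpLib.locP_mono ?_ (AlgSpLib.locP_inf.2 h)
  rintro _ _ f ⟨h1, -, h2⟩
  haveI : Smooth f := h1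
  haveI : FormallyUnramified f := h2
  exact Etale.of_formallyUnramified_of_flat f

end Groth.Agent.IsoNatLib.Chart
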