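import Groth.Agent.IsoNatLib.Chart.Points
import Groth.Agent.IsoNatLib.Tangent.Lift
import Groth.Agent.AlgSpLib.LfpCrit
import Groth.Agent.AlgSpLib.LfpLimit
import Groth.Agent.S10629
import Groth.Agent.AlgSpLib.SurjLift

/-!
# Smooth, unramified and locally finitely presented charts, read on arrows of the stack
-/

set_option autoImplicit false
set_option linter.style.haveILetI false
set_option backward.isDefEq.respectTransparency false
set_option backward.isDefEq.respectTransparency.types false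

universe u

open CategoryTheory CategoryTheory.Limits AlgebraicGeometry Opposite FibCat
open Groth.Agent.Stk19 Groth.Agent.Desc19 Groth.Agent.Stk19b
open Groth.Agent.IsoNatLib.Tangent (dT dπ dι dualSpec proj clPt)

namespace Groth.Agent.IsoNatLib.Chart

variable {S : Scheme.{u}} {𝒳 : AlgSt.Cat S}

/-- Arrows to `η` extend along square zero thickenings of affine schemes. -/
def Lifts (η : 𝒳.obj) : Prop :=
  ∀ ⦃A A₀ : Type u⦄ [CommRing A] [CommRing A₀] (π : A →+* A₀), Function.Surjective π → RingHom.ker π ^ 2 = ⊥ →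
    ∀ (s : Spec (CommRingCat.of A) ⟶ S) (t z₀ : 𝒳.obj) (et : 𝒳.p.obj t = Over.mk s)
      (e₀ : 𝒳.p.obj z₀ = Over.mk (Spec.map (CommRingCat.ofHom π) ≫ s)) (ν : z₀ ⟶ t) (a₀ : z₀ ⟶ η),
      𝒳.p.map ν = eqToHom e₀ ≫ AlgSpLib.surjPt π s ≫ eqToHom et.symm → ∃ a : t ⟶ η, ν ≫ a = a₀

/-- Arrows to `η` from limits of affine schemes come from a stage. -/
def LimLifts (η : 𝒳.obj) : Prop :=
  ∀ ⦃I : Type u⦄ [SmallCategory I] [IsCofiltered I] (D : I ⥤ Over S) (c : Cone D),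
    IsLimit ((Over.forget S).mapCone c) → (∀ i, IsAffine (D.obj i).left) → IsAffine c.pt.left →
    ∀ (i : I) (t z : 𝒳.obj) (et : 𝒳.p.obj t = D.obj i) (ez : 𝒳.p.obj z = c.pt) (ν : z ⟶ t) (a : z ⟶ η),
      𝒳.p.map ν = eqToHom ez ≫ c.π.app i ≫ eqToHom et.symm →
      ∃ (k : I) (φ : k ⟶ i) (tk : 𝒳.obj) (ek : 𝒳.p.obj tk = D.obj k) (r : tk ⟶ t) (νk : z ⟶ tk) (ak : tk ⟶ η),
        𝒳.p.map r = eqToHom ek ≫ D.map φ ≫ eqToHom et.symm ∧
          𝒳.p.map νk = eqToHom ez ≫ c.π.app k ≫ eqToHom ek.symm ∧ νk ≫ r = ν ∧ νk ≫ ak = a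

/-- Arrows to `η` are determined on a surjection. -/
def Rig (η : 𝒳.obj) : Prop :=
  ∀ {b r : 𝒳.obj} (f f' : b ⟶ η) (ν : r ⟶ b), Function.Surjective (𝒳.p.map ν).left → ν ≫ f = ν ≫ f' → f = f'

/-- Arrows to `η` from constant objects over dual numbers are determined at the point. -/
def TangRig (η : 𝒳.obj) : Prop :=
  ∀ (K : Type u) [Field K] (j₀ : Spec (CommRingCat.of K) ⟶ S) (a a₀ z : 𝒳.obj) (ea : 𝒳.p.obj a = dT j₀)
    (e₀ : 𝒳.p.obj a₀ = Over.mk j₀) (ez : 𝒳.p.obj z = Over.mk j₀) (ν₀ : a ⟶ a₀) (ν : z ⟶ a) (f f' : a ⟶ η),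
    𝒳.p.map ν₀ = eqToHom ea ≫ dπ j₀ ≫ eqToHom e₀.symm → 𝒳.p.map ν = eqToHom ez ≫ dι j₀ ≫ eqToHom ea.symm →
    ν ≫ f = ν ≫ f' → f = f'

variable {U : Over S} {x : overCat U ⥤ᵇ 𝒳}

theorem exists_space_of_with (h : IsFibGrpd 𝒳.p) {P : MorphismProperty (AlgSp.Sp S)}
    (hP : AlgSt.RepByAlgSpWith P x) (t : 𝒳.obj) :
    ∃ (c : overCat (𝒳.p.obj t) ⥤ᵇ 𝒳) (j : t ⟶ gen c) (G : AlgSp.Space S) (e : AlgSt.ofSp G.obj ⥤ᵇ fp c x),
      IsEquivOver e ∧ P (AlgSt.spMapOfOver (BasedFunctor.comp e (fpFst c x))) ∧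
        𝒳.p.map j = eqToHom (gen_base c).symm := by
  obtain ⟨c, i, hi⟩ := exists_classifying h t rfl
  obtain ⟨G, e, he, hG⟩ := hP _ c
  refine ⟨c, i.inv, G, e, he, hG, ?_⟩
  haveI := hi
  have := vert_inv 𝒳.p i hi
  rw [IsHomLift.fac' 𝒳.p (𝟙 (𝒳.p.obj t)) i.inv]
  simp

theorem lifts_of_smooth (h : IsFibGrpd 𝒳.p) (hx : AlgSt.RepByAlgSpWith (AlgSp.LocP @Smooth) x) :
    Lifts (gen x) := by
  intro A A₀ _ _ π hπ hsq s t z₀ et e₀ ν a₀ hν
  obtain ⟨c, j, G, e, he, hG, hj⟩ := exists_space_of_with h hx t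
  let f : G ⟶ (⟨_, AlgSp.IsAlgSpace.yon_obj (𝒳.p.obj t)⟩ : AlgSp.Space S) :=
    ObjectProperty.homMk (AlgSt.spMapOfOver (BasedFunctor.comp e (fpFst c x)))
  have hfs : AlgSp.IsFormallySmoothMor f.hom := ((Groth.Agent.S10629.result f).1 hG).2
  obtain ⟨γ₀, hγ₀⟩ := exists_isPt h he e₀ (ν ≫ j) a₀
  have hp₀ : γ₀ ≫ f.hom = (AlgSp.yon S).map (AlgSpLib.surjPt π s ≫ eqToHom et.symm) :=
    proj_of_isPt hγ₀ e₀ (by rw [𝒳.p.map_comp, hν, hj]; simp)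
  obtain ⟨γ, hγj, hγf⟩ := AlgSpLib.exists_lift_of_surjective hfs π hπ hsq s γ₀
    ((AlgSp.yon S).map (eqToHom et.symm)) (by rw [hp₀, Functor.map_comp])
  have hs := isPt_self e γ
  have ez : 𝒳.p.obj (ptPt e γ) = Over.mk s := ptPt_base e γ
  have hn := map_left_of_isPt hγf hs ez
  obtain ⟨k, hkm, hk⟩ := (fibGrpd_fac h (toGen c (ptObj e γ).obj.fst) j (eqToHom (et.trans ez.symm)) (by
    rw [hn, hj]; simp)).exists
  refine ⟨k ≫ spanR c x (ptObj e γ), ?_⟩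
  have h1 := isPt_restrict h (AlgSpLib.surjPt π s) hs e₀ ez (ν ≫ k) (by
    rw [𝒳.p.map_comp, hν, hkm]; simp)
  rw [hγj, Category.assoc, hk, Category.assoc] at h1
  exact arrows_eq_of_isPt h h1 hγ₀

theorem limLifts_of_lfp (h : IsFibGrpd 𝒳.p)
    (hx : AlgSt.RepByAlgSpWith (AlgSp.LocP @LocallyOfFinitePresentation) x) : LimLifts (gen x) := by
  intro I _ _ D cn hcn hD hpt i t z et ez ν a hν
  obtain ⟨c, j, G, e, he, hG, hj⟩ := exists_space_of_with h hx t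
  let f : G ⟶ (⟨_, AlgSp.IsAlgSpace.yon_obj (𝒳.p.obj t)⟩ : AlgSp.Space S) :=
    ObjectProperty.homMk (AlgSt.spMapOfOver (BasedFunctor.comp e (fpFst c x)))
  obtain ⟨γ, hγ⟩ := exists_isPt h he ez (ν ≫ j) a
  have hp : γ ≫ f.hom = (AlgSp.yon S).map (cn.π.app i) ≫ (AlgSp.yon S).map (eqToHom et.symm) := by
    rw [← Functor.map_comp]
    exact proj_of_isPt hγ ez (by rw [𝒳.p.map_comp, hν, hj]; simp)
  haveI := hD
  haveI := hpt
  obtain ⟨k, φ, γk, hγk, hγkf⟩ := AlgSpLib.LfpLimit.exists_stage_point f hG D cn hcn γ i _ hp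
  rw [← Functor.map_comp] at hγkf
  have hs := isPt_self e γk
  have ek : 𝒳.p.obj (ptPt e γk) = D.obj k := ptPt_base e γk
  have hn := map_left_of_isPt hγkf hs ek
  have : IsIso (𝒳.p.map j) := by rw [hj]; infer_instance
  have := fibGrpd_isIso h j
  obtain ⟨νk, hνkm, hνk⟩ := (fibGrpd_fac h (toGen c (ptObj e γk).obj.fst) (ν ≫ j)
    (eqToHom ez ≫ cn.π.app k ≫ eqToHom ek.symm) (by
      rw [hn, 𝒳.p.map_comp, hν, hj]; simp [reassoc_of% (cn.w φ)])).exists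
  refine ⟨k, φ, ptPt e γk, ek, toGen c (ptObj e γk).obj.fst ≫ inv j, νk, spanR c x (ptObj e γk), ?_, hνkm, ?_, ?_⟩
  · rw [𝒳.p.map_comp, hn, Functor.map_inv]
    simp [hj]
  · rw [reassoc_of% hνk, IsIso.hom_inv_id, Category.comp_id]
  · have h1 := isPt_restrict h (cn.π.app k) hs ez ek νk hνkm
    rw [hγk, hνk] at h1
    exact arrows_eq_of_isPt h h1 hγ

theorem rig_of_unramified (h : IsFibGrpd 𝒳.p)
    (hx : AlgSt.RepByAlgSpWith (AlgSp.LocP (@LocallyOfFiniteType ⊓ @FormallyUnramified)) x) : Rig (gen x) := by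
  intro b r f f' ν hν hff
  obtain ⟨c, j, G, e, he, hG, hj⟩ := exists_space_of_with h hx b
  obtain ⟨γ, hγ⟩ := exists_isPt h he (rfl : 𝒳.p.obj b = _) j f
  obtain ⟨γ', hγ'⟩ := exists_isPt h he (rfl : 𝒳.p.obj b = _) j f'
  have hp : ∀ {δ : (AlgSp.yon S).obj (𝒳.p.obj b) ⟶ G.obj} {g : b ⟶ gen x}, IsPt e δ j g →
      δ ≫ AlgSt.spMapOfOver (BasedFunctor.comp e (fpFst c x)) = 𝟙 _ := fun hδ =>
    (proj_of_isPt hδ rfl (g := 𝟙 _) (by rw [hj]; simp)).trans ((AlgSp.yon S).map_id _)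
  have hr : 𝒳.p.map ν = eqToHom rfl ≫ 𝒳.p.map ν ≫ eqToHom rfl := by simp
  have h1 := isPt_restrict h (𝒳.p.map ν) hγ rfl rfl ν hr
  have h2 := isPt_restrict h (𝒳.p.map ν) hγ' rfl rfl ν hr
  rw [← hff] at h2
  obtain rfl : γ = γ' := eq_of_open_diag
    (diag_of_locP_unram (V := G) (Z := ⟨_, AlgSp.IsAlgSpace.yon_obj (𝒳.p.obj b)⟩) _ hG) γ γ' (hp hγ) (hp hγ')
    fun q => ⟨_, 𝒳.p.map ν, hν q, isPt_ext h he h1 h2⟩
  exact arrows_eq_of_isPt h hγ hγ'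

theorem lfp_of_limLifts (h : IsFibGrpd 𝒳.p) (hr : AlgSt.RepByAlgSp1 x) (H : LimLifts (gen x)) :
    AlgSt.RepByAlgSpWith (AlgSp.LocP @LocallyOfFinitePresentation) x := by
  intro T c
  obtain ⟨G, e, he⟩ := hr T c
  let f : G ⟶ (⟨_, AlgSp.IsAlgSpace.yon_obj T⟩ : AlgSp.Space S) :=
    ObjectProperty.homMk (AlgSt.spMapOfOver (BasedFunctor.comp e (fpFst c x)))
  refine ⟨G, e, he, AlgSpLib.LfpCrit.locP_lfp_of_surjective f fun I _ _ D cn hcn hD hpt γ i y hy => ?_⟩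
  obtain ⟨g, rfl⟩ := (AlgSp.yon S).map_surjective y
  rw [← Functor.map_comp] at hy
  have hs := isPt_self e γ
  have ez : 𝒳.p.obj (ptPt e γ) = cn.pt := ptPt_base e γ
  have hn := map_left_of_isPt hy hs ez
  obtain ⟨t, nt, et, hnt⟩ := fibGrpd_lift h (gen c) (g ≫ eqToHom (gen_base c).symm)
  obtain ⟨ν, hνm, hν⟩ := (fibGrpd_fac h nt (toGen c (ptObj e γ).obj.fst)
    (eqToHom ez ≫ cn.π.app i ≫ eqToHom et.symm) (by rw [hnt, hn]; simp)).exists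
  obtain ⟨k, φ, tk, ek, r, νk, ak, hrm, hνkm, hνkr, hνka⟩ :=
    H D cn hcn hD hpt i t (ptPt e γ) et ez ν (spanR c x (ptObj e γ)) hνm
  obtain ⟨γk, hγk⟩ := exists_isPt h he ek (r ≫ nt) ak
  refine ⟨k, φ, γk, isPt_ext h he ?_ hs, ?_⟩
  · have h1 := isPt_restrict h (cn.π.app k) hγk ez ek νk hνkm
    rwa [reassoc_of% hνkr, hν, hνka] at h1
  · rw [← Functor.map_comp]
    exact proj_of_isPt hγk ek (by rw [𝒳.p.map_comp, hrm, hnt]; simp)

theorem smooth_of_lifts (h : IsFibGrpd 𝒳.p)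
    (hl : AlgSt.RepByAlgSpWith (AlgSp.LocP @LocallyOfFinitePresentation) x) (H : Lifts (gen x)) :
    AlgSt.RepByAlgSpWith (AlgSp.LocP @Smooth) x := by
  intro T c
  obtain ⟨G, e, he, hG⟩ := hl T c
  let f : G ⟶ (⟨_, AlgSp.IsAlgSpace.yon_obj T⟩ : AlgSp.Space S) :=
    ObjectProperty.homMk (AlgSt.spMapOfOver (BasedFunctor.comp e (fpFst c x)))
  refine ⟨G, e, he, (Groth.Agent.S10629.result f).2 ⟨hG, fun sq => ?_⟩⟩
  obtain ⟨g, hg⟩ := (AlgSp.yon S).map_surjective sq.bot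
  have hs := isPt_self e sq.top
  have e₀ : 𝒳.p.obj (ptPt e sq.top) = sq.ptT := ptPt_base e sq.top
  have hn := map_left_of_isPt (g := sq.j ≫ g) (sq.comm.trans (by rw [Functor.map_comp, hg])) hs e₀
  obtain ⟨t, nt, et, hnt⟩ := fibGrpd_lift h (gen c) (g ≫ eqToHom (gen_base c).symm)
  obtain ⟨ν, hνm, hν⟩ := (fibGrpd_fac h nt (toGen c (ptObj e sq.top).obj.fst)
    (eqToHom e₀ ≫ sq.j ≫ eqToHom et.symm) (by rw [hnt, hn]; simp)).exists
  obtain ⟨a, ha⟩ := H (Ideal.Quotient.mk sq.I) Ideal.Quotient.mk_surjective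
    (by rw [Ideal.mk_ker]; exact sq.sq_zero) sq.str t (ptPt e sq.top) et e₀ ν (spanR c x (ptObj e sq.top)) hνm
  obtain ⟨γ, hγ⟩ := exists_isPt h he et nt a
  refine ⟨γ, isPt_ext h he ?_ hs, (proj_of_isPt hγ et (g := g) (by rw [hnt])).trans hg⟩
  have h1 := isPt_restrict h sq.j hγ e₀ et ν hνm
  rwa [hν, ha] at h1

theorem unramified_of_tangRig (h : IsFibGrpd 𝒳.p)
    (hl : AlgSt.RepByAlgSpWith (AlgSp.LocP @LocallyOfFinitePresentation) x) (H : TangRig (gen x)) :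
    AlgSt.RepByAlgSpWith (AlgSp.LocP (@LocallyOfFiniteType ⊓ @FormallyUnramified)) x := by
  intro T c
  obtain ⟨G, e, he, hG⟩ := hl T c
  let p := AlgSt.spMapOfOver (BasedFunctor.comp e (fpFst c x))
  refine ⟨G, e, he, fun W V α β k hα hβ hk => ?_⟩
  have hlfp : LocallyOfFinitePresentation k.left := hG α β k hα hβ hk
  refine ⟨inferInstance, Tangent.formallyUnramified_of_tangent k.left fun K _ g₁ g₂ y hi hy₁ hy₂ => ?_⟩
  let j₀ : Spec (CommRingCat.of K) ⟶ S := y ≫ V.hom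
  have hw : ∀ g : dualSpec K ⟶ W.left, g ≫ k.left = proj K ≫ y → g ≫ W.hom = proj K ≫ j₀ := fun g hg => by
    rw [← Over.w k, reassoc_of% hg]
  let h₁ : dT j₀ ⟶ W := Over.homMk g₁ (hw g₁ hy₁)
  let h₂ : dT j₀ ⟶ W := Over.homMk g₂ (hw g₂ hy₂)
  let y₀ : Over.mk j₀ ⟶ V := Over.homMk y
  have hti : dι j₀ ≫ h₁ = dι j₀ ≫ h₂ := Over.OverMorphism.ext hi
  have hy : ∀ (gh : dT j₀ ⟶ W), gh.left ≫ k.left = proj K ≫ y → gh ≫ k = dπ j₀ ≫ y₀ := fun gh hgh =>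
    Over.OverMorphism.ext hgh
  obtain ⟨b, hb⟩ := (AlgSp.yon S).map_surjective β
  let γ : Bool → ((AlgSp.yon S).obj (dT j₀) ⟶ G.obj) := fun s => (AlgSp.yon S).map (if s then h₂ else h₁) ≫ α
  have hγp : ∀ s, γ s ≫ p = (AlgSp.yon S).map (dπ j₀ ≫ y₀ ≫ b) := fun s => by
    simp only [γ, Category.assoc]
    rw [show α ≫ p = (AlgSp.yon S).map k ≫ β from hk, ← hb, ← Functor.map_comp, ← Functor.map_comp]
    cases s
    · simp [reassoc_of% hy h₁ hy₁]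
    · simp [reassoc_of% hy h₂ hy₂]
  obtain ⟨t₀, n₀, e₀, hn₀⟩ := fibGrpd_lift h (gen c) (y₀ ≫ b ≫ eqToHom (gen_base c).symm)
  obtain ⟨t, ν₀, et, hν₀⟩ := fibGrpd_lift h t₀ (dπ j₀ ≫ eqToHom e₀.symm)
  obtain ⟨z, ν, ez, hν⟩ := fibGrpd_lift h t (dι j₀ ≫ eqToHom et.symm)
  have key : ∀ s, ∃ a : t ⟶ gen x, IsPt e (γ s) (ν₀ ≫ n₀) a := fun s => by
    have hs := isPt_self e (γ s)
    have ep : 𝒳.p.obj (ptPt e (γ s)) = dT j₀ := ptPt_base e (γ s)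
    obtain ⟨q, hqm, hq⟩ := (fibGrpd_fac h (toGen c (ptObj e (γ s)).obj.fst) (ν₀ ≫ n₀) (eqToHom (et.trans ep.symm)) (by
      rw [map_left_of_isPt (hγp s) hs ep, 𝒳.p.map_comp, hν₀, hn₀]; simp)).exists
    refine ⟨q ≫ spanR c x (ptObj e (γ s)), ?_⟩
    have h1 := isPt_restrict h (𝟙 (dT j₀)) hs et ep q (by rw [hqm]; simp)
    rwa [CategoryTheory.Functor.map_id, Category.id_comp, hq] at h1
  choose a ha using key
  have heq : γ false = γ true := by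
    refine isPt_ext h he (ha false) ?_
    have hres : ν ≫ a false = ν ≫ a true := by
      have r₁ := isPt_restrict h (dι j₀) (ha false) ez et ν hν
      have r₂ := isPt_restrict h (dι j₀) (ha true) ez et ν hν
      have e' : (AlgSp.yon S).map (dι j₀) ≫ γ false = (AlgSp.yon S).map (dι j₀) ≫ γ true := by
        simp only [γ, Bool.false_eq_true, if_false, if_true, ← Functor.map_comp_assoc, hti]
      rw [← e'] at r₂
      exact arrows_eq_of_isPt h r₁ r₂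
    rw [H K j₀ t t₀ z et e₀ ez ν₀ ν (a false) (a true) hν₀ hν hres]
    exact ha true
  have hγ : (AlgSp.yon S).map h₁ ≫ α = (AlgSp.yon S).map h₂ ≫ α := heq
  have sq := hα.rep.isPullback ((AlgSp.yon S).map h₁ ≫ α)
  let l₁ := sq.lift ((AlgSp.yon S).map h₁) (𝟙 _) (by rw [Category.id_comp])
  let l₂ := sq.lift ((AlgSp.yon S).map h₂) (𝟙 _) (by rw [Category.id_comp, hγ])
  have : Etale (hα.rep.snd ((AlgSp.yon S).map h₁ ≫ α)).left := hα.property_snd _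
  have hsurj : Function.Surjective (clPt K) := fun q => by
    show q ∈ Set.range (PrimeSpectrum.comap (TrivSqZeroExt.fstHom K K K).toRingHom)
    rw [range_comap_of_surjective _ _ fun r => ⟨TrivSqZeroExt.inl r, TrivSqZeroExt.fst_inl K r⟩]
    intro r hr
    have hr2 : r * r = 0 := by
      have h1 : TrivSqZeroExt.fst r = 0 := hr
      exact TrivSqZeroExt.ext (by simp [h1]) (by simp [h1])
    exact (q.isPrime.mem_or_mem (hr2 ▸ Ideal.zero_mem _)).elim id id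
  have hl : l₁ = l₂ := eq_of_open_diag
    ((AlgSp.repWith_diagonal_yon_map_iff @IsOpenImmersion (hα.rep.snd ((AlgSp.yon S).map h₁ ≫ α))).2 inferInstance)
    l₁ l₂ (sq.lift_snd _ _ _) (sq.lift_snd _ _ _) fun q => ⟨_, dι j₀, hsurj q, sq.hom_ext
      (by simp only [l₁, l₂, Category.assoc, sq.lift_fst, ← Functor.map_comp, hti])
      (by simp only [l₁, l₂, Category.assoc, sq.lift_snd])⟩
  have := congrArg (· ≫ hα.rep.fst ((AlgSp.yon S).map h₁ ≫ α)) hl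
  simp only [l₁, l₂, sq.lift_fst] at this
  exact congrArg CommaMorphism.left ((AlgSp.yon S).map_injective this)

end Groth.Agent.IsoNatLib.Chart
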