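import Groth.Agent.IsoNatLib.Twist.Res
import Groth.Agent.IsoNatLib.Chart.Crit

/-!
# Automorphisms on a limit of affine schemes come from a stage when inertia is locally finitely presented
-/

set_option autoImplicit false
set_option linter.style.haveILetI false
set_option backward.isDefEq.respectTransparency false
set_option backward.isDefEq.respectTransparency.types false

universe u

open CategoryTheory CategoryTheory.Limits AlgebraicGeometry Opposite FibCat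
open Groth.Agent.Stk19 Groth.Agent.Desc19 Groth.Agent.Stk19b

namespace Groth.Agent.IsoNatLib.Chart

variable {S : Scheme.{u}} {𝒴 : AlgSt.Cat S}

/-- Automorphisms of an object over a limit of affine schemes, pulled back from a stage, come from a stage. -/
def AutLim (𝒴 : AlgSt.Cat S) : Prop :=
  ∀ ⦃I : Type u⦄ [SmallCategory I] [IsCofiltered I] (D : I ⥤ Over S) (c : Cone D),
    IsLimit ((Over.forget S).mapCone c) → (∀ i, IsAffine (D.obj i).left) → IsAffine c.pt.left →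
    ∀ (i : I) (t z : 𝒴.obj) (et : 𝒴.p.obj t = D.obj i) (ez : 𝒴.p.obj z = c.pt) (ν : z ⟶ t) (γ : z ⟶ z),
      𝒴.p.map ν = eqToHom ez ≫ c.π.app i ≫ eqToHom et.symm → 𝒴.p.map γ = 𝟙 _ →
      ∃ (k : I) (φ : k ⟶ i) (tk : 𝒴.obj) (ek : 𝒴.p.obj tk = D.obj k) (r : tk ⟶ t) (νk : z ⟶ tk) (δ : tk ⟶ tk),
        𝒴.p.map r = eqToHom ek ≫ D.map φ ≫ eqToHom et.symm ∧
          𝒴.p.map νk = eqToHom ez ≫ c.π.app k ≫ eqToHom ek.symm ∧ νk ≫ r = ν ∧ 𝒴.p.map δ = 𝟙 _ ∧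
          γ ≫ νk = νk ≫ δ

theorem autLim_of_inertia (h : IsFibGrpd 𝒴.p)
    (hI : AlgSt.RepByAlgSpWith (AlgSp.LocP @LocallyOfFinitePresentation) (inertiaToBase (toSelf 𝒴))) :
    AutLim 𝒴 := by
  intro I _ _ D cn hcn hD hpt i t z et ez ν γ hν hγ
  obtain ⟨c, a, ha⟩ := exists_classifying h t rfl
  haveI := ha
  have ha₁ : 𝒴.p.map a.hom = eqToHom (gen_base c) := by
    rw [IsHomLift.fac' 𝒴.p (𝟙 (𝒴.p.obj t)) a.hom]
    simp
  have ha₂ : 𝒴.p.map a.inv = eqToHom (gen_base c).symm := by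
    rw [← cancel_epi (𝒴.p.map a.hom), ← 𝒴.p.map_comp, a.hom_inv_id, 𝒴.p.map_id, ha₁]
    simp
  obtain ⟨G, e, he, hG⟩ := hI _ c
  let f : G ⟶ (⟨_, AlgSp.IsAlgSpace.yon_obj (𝒴.p.obj t)⟩ : AlgSp.Space S) :=
    ObjectProperty.homMk (AlgSt.spMapOfOver (BasedFunctor.comp e (fpFst c (inertiaToBase (toSelf 𝒴)))))
  let wc : (overCat (𝒴.p.obj t)).obj := Over.mk (cn.π.app i ≫ eqToHom et.symm)
  obtain ⟨k₁, hk₁m, hk₁⟩ := (fibGrpd_fac h (ν ≫ a.inv) (toGen c wc) (eqToHom ((c.w_obj wc).trans ez.symm)) (by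
    rw [map_toGen, 𝒴.p.map_comp, hν, ha₂]; simp [wc])).exists
  haveI := isIso_of_vert h k₁ hk₁m
  haveI := Groth.Agent.IsoNatLib.Twist.isIso_of_map h hγ
  let zγ : InertiaObj (toSelf 𝒴) := ⟨z, asIso γ, hγ⟩
  let Z : (fp c (inertiaToBase (toSelf 𝒴))).obj := fpMk wc zγ (asIso k₁)
    (IsHomLift.of_fac' 𝒴.p _ _ (c.w_obj wc) ez (by
      rw [asIso_hom, hk₁m]
      erw [Category.id_comp]
      exact (eqToHom_trans _ _).symm))
  obtain ⟨γ', M, hM⟩ := Stk19b.DMSlice.exists_sec_vert he Z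
  have hMf : M.hom.fst.left = eqToHom (e.w_obj ⟨cn.pt,
      GrothendieckTopology.uliftYonedaEquiv.{u + 1} (AlgSp.J S) γ'⟩) := hM
  obtain ⟨g, hg⟩ := (AlgSp.yon S).map_surjective
    (γ' ≫ AlgSt.spMapOfOver (BasedFunctor.comp e (fpFst c (inertiaToBase (toSelf 𝒴)))))
  have hgi : g = cn.π.app i ≫ eqToHom et.symm := by
    have h1 := Over.w M.hom.fst
    rw [sec_fst_hom e γ' hg.symm (e.w_obj ⟨cn.pt, GrothendieckTopology.uliftYonedaEquiv.{u + 1} (AlgSp.J S) γ'⟩), hMf] at h1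
    exact ((cancel_epi _).1 h1).symm
  have hp : γ' ≫ f.hom = (AlgSp.yon S).map (cn.π.app i) ≫ (AlgSp.yon S).map (eqToHom et.symm) := by
    rw [← Functor.map_comp, ← hgi]
    exact hg.symm
  haveI := hD
  haveI := hpt
  obtain ⟨k, φ, γk, hγk, hγkf⟩ := AlgSpLib.LfpLimit.exists_stage_point f hG D cn hcn γ' i _ hp
  rw [← Functor.map_comp] at hγkf
  subst hγk
  let w₀ : (AlgSt.ofSp G.obj).obj :=
    ⟨cn.pt, GrothendieckTopology.uliftYonedaEquiv.{u + 1} (AlgSp.J S) ((AlgSp.yon S).map (cn.π.app k) ≫ γk)⟩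
  let wk : (AlgSt.ofSp G.obj).obj := ⟨D.obj k, GrothendieckTopology.uliftYonedaEquiv.{u + 1} (AlgSp.J S) γk⟩
  let P₀ := e.obj w₀
  let P := e.obj wk
  let M₀ : P₀ ⟶ P := e.map (Stk19b.yonedaElt (cn.π.app k) γk)
  have hM₀ : M₀.hom.fst.left = eqToHom (e.w_obj w₀) ≫ cn.π.app k ≫ eqToHom (e.w_obj wk).symm :=
    based_map e _
  have e₀ : 𝒴.p.obj P₀.obj.snd.pt = cn.pt := (fp_base_eq P₀).trans (e.w_obj w₀)
  have ek : 𝒴.p.obj P.obj.snd.pt = D.obj k := (fp_base_eq P).trans (e.w_obj wk)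
  let m : P₀.obj.snd.pt ⟶ z := M.hom.snd.hom
  let m₀ : P₀.obj.snd.pt ⟶ P.obj.snd.pt := M₀.hom.snd.hom
  have mm : 𝒴.p.map m = eqToHom (e₀.trans ez.symm) := by
    have h1 : 𝒴.p.map m = _ := fp_map_snd M
    rw [h1, show (overCat (𝒴.p.obj t)).p.map M.hom.fst = M.hom.fst.left from rfl, hMf]
    simp
  have mm₀ : 𝒴.p.map m₀ = eqToHom e₀ ≫ cn.π.app k ≫ eqToHom ek.symm := by
    have h1 : 𝒴.p.map m₀ = _ := fp_map_snd M₀
    rw [h1, show (overCat (𝒴.p.obj t)).p.map M₀.hom.fst = M₀.hom.fst.left from rfl, hM₀]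
    simp
  haveI := isIso_of_vert h m mm
  have w : c.map M.hom.fst ≫ k₁ = P₀.obj.iso.hom ≫ m := M.hom.w
  have w' : c.map M₀.hom.fst ≫ P.obj.iso.hom = P₀.obj.iso.hom ≫ m₀ := M₀.hom.w
  let r : P.obj.snd.pt ⟶ t := P.obj.iso.inv ≫ toGen c P.obj.fst ≫ a.hom
  let νk : z ⟶ P.obj.snd.pt := inv m ≫ m₀
  have hνkm : 𝒴.p.map νk = eqToHom ez ≫ cn.π.app k ≫ eqToHom ek.symm := by
    rw [𝒴.p.map_comp, Functor.map_inv, mm₀]
    simp [mm]
  refine ⟨k, φ, P.obj.snd.pt, ek, r, νk, P.obj.snd.aut.hom, ?_, hνkm, ?_, P.obj.snd.map_aut, ?_⟩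
  · have hi : 𝒴.p.map P.obj.iso.hom = _ := fp_iso_map P
    have : IsIso (𝒴.p.map P.obj.iso.hom) := inferInstance
    have hh : P.obj.fst.hom = eqToHom (e.w_obj wk) ≫ D.map φ ≫ eqToHom et.symm := sec_fst_hom e γk hγkf _
    rw [← cancel_epi (𝒴.p.map P.obj.iso.hom), ← 𝒴.p.map_comp, Iso.hom_inv_id_assoc, 𝒴.p.map_comp, map_toGen,
      ha₁, hi, hh]
    simp
  · refine (cancel_epi m).1 ((cancel_epi P₀.obj.iso.hom).1 ?_)
    simp only [νk, r, Category.assoc, IsIso.hom_inv_id_assoc]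
    rw [← reassoc_of% w', Iso.hom_inv_id_assoc, ← reassoc_of% (map_comp_toGen c M₀.hom.fst).symm,
      ← reassoc_of% w]
    have h2 : k₁ ≫ ν = toGen c wc ≫ a.hom := by
      rw [← hk₁]; simp
    rw [h2]
    exact (reassoc_of% (map_comp_toGen c M.hom.fst)) a.hom |>.symm
  · refine (cancel_epi m).1 ?_
    have c₁ : P₀.obj.snd.aut.hom ≫ m = m ≫ γ := M.hom.snd.comm
    have c₂ : P₀.obj.snd.aut.hom ≫ m₀ = m₀ ≫ P.obj.snd.aut.hom := M₀.hom.snd.comm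
    show m ≫ γ ≫ inv m ≫ m₀ = m ≫ (inv m ≫ m₀) ≫ P.obj.snd.aut.hom
    rw [← reassoc_of% c₁, IsIso.hom_inv_id_assoc, Category.assoc, IsIso.hom_inv_id_assoc, c₂]

end Groth.Agent.IsoNatLib.Chart
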