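import Groth.Agent.IsoNatLib.Chart.Crit
import Groth.Agent.IsoNatLib.Twist.Ext
import Mathlib.Algebra.Polynomial.Eval.Coeff

/-!
# A line over the reduced base, thickened at the origin
-/

set_option autoImplicit false
set_option linter.style.haveILetI false
set_option backward.isDefEq.respectTransparency false
set_option backward.isDefEq.respectTransparency.types false

universe u

open CategoryTheory CategoryTheory.Limits AlgebraicGeometry Opposite FibCat
open Polynomial
open Groth.Agent.Stk19 Groth.Agent.IsoNatLib.Twist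

namespace Groth.Agent.IsoNatLib.Chart

variable {S : Scheme.{u}}

/-- A line over `T₀` whose origin is thickened to `T`; `D` is the punctured line, open in both. -/
structure Bend {T T₀ : Over S} (j : T₀ ⟶ T) {B A₀ D : Over S} (σ : T ⟶ B) (p : B ⟶ T) (σ₀ : T₀ ⟶ A₀)
    (p₀ : A₀ ⟶ T₀) (jB : A₀ ⟶ B) (d : D ⟶ A₀) : Prop where
  sec : σ ≫ p = 𝟙 _
  sec₀ : σ₀ ≫ p₀ = 𝟙 _
  hσ : σ₀ ≫ jB = j ≫ σ
  hp : jB ≫ p = p₀ ≫ j
  open₀ : IsOpenImmersion d.left
  open₁ : IsOpenImmersion (d ≫ jB).left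
  dom : IsDominantSch d.left
  lift : ∀ {𝒳 : AlgSt.Cat S} {η : 𝒳.obj}, Lifts η → ∀ (t z₀ : 𝒳.obj) (et : 𝒳.p.obj t = B)
    (e₀ : 𝒳.p.obj z₀ = A₀) (ν : z₀ ⟶ t) (a₀ : z₀ ⟶ η),
    𝒳.p.map ν = eqToHom e₀ ≫ jB ≫ eqToHom et.symm → ∃ a : t ⟶ η, ν ≫ a = a₀

section Ring

variable {R R₀ : Type u} [CommRing R] [CommRing R₀] (π : R →+* R₀)

/-- Polynomials whose constant term is thickened. -/
noncomputable def bendRing : Subring (R × R₀[X]) :=
  RingHom.eqLocus (π.comp (RingHom.fst R R₀[X])) ((evalRingHom 0).comp (RingHom.snd R R₀[X]))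

theorem mem_bendRing {a : R × R₀[X]} : a ∈ bendRing π ↔ π a.1 = a.2.eval 0 := by
  rw [bendRing]
  exact Iff.rfl

/-- The projection to polynomials. -/
noncomputable def bendSnd : ↥(bendRing π) →+* R₀[X] := (RingHom.snd R R₀[X]).comp (bendRing π).subtype

/-- The origin. -/
noncomputable def bendFst : ↥(bendRing π) →+* R := (RingHom.fst R R₀[X]).comp (bendRing π).subtype

/-- The constants. -/
noncomputable def bendC : R →+* ↥(bendRing π) :=
  RingHom.codRestrict ((RingHom.id R).prod (Polynomial.C.comp π)) (bendRing π)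
    fun r => (mem_bendRing π).2 (by simp)

variable {π}

theorem bendFst_C : (bendFst π).comp (bendC π) = RingHom.id R := RingHom.ext fun r => rfl

theorem bendSnd_C : (bendSnd π).comp (bendC π) = Polynomial.C.comp π := RingHom.ext fun r => rfl

theorem eval_bendSnd : (evalRingHom (0 : R₀)).comp (bendSnd π) = π.comp (bendFst π) :=
  RingHom.ext fun a => ((mem_bendRing π).1 a.2).symm

theorem bendSnd_surjective (hπ : Function.Surjective π) : Function.Surjective (bendSnd π) := fun p => by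
  obtain ⟨r, hr⟩ := hπ (p.eval 0)
  exact ⟨⟨(r, p), (mem_bendRing π).2 hr⟩, rfl⟩

theorem bendSnd_ker (hsq : RingHom.ker π ^ 2 = ⊥) : RingHom.ker (bendSnd π) ^ 2 = ⊥ := by
  rw [pow_two, eq_bot_iff, Ideal.mul_le]
  intro a ha b hb
  have key : ∀ c : ↥(bendRing π), c ∈ RingHom.ker (bendSnd π) → c.1.1 ∈ RingHom.ker π ∧ c.1.2 = 0 := fun c hc => by
    have h2 : c.1.2 = 0 := hc
    refine ⟨?_, h2⟩
    rw [RingHom.mem_ker, (mem_bendRing π).1 c.2, h2, Polynomial.eval_zero]
  have h1 : a.1.1 * b.1.1 = 0 := by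
    have := Ideal.mul_mem_mul (key a ha).1 (key b hb).1
    rwa [← pow_two, hsq, Submodule.mem_bot] at this
  exact (Submodule.mem_bot _).2 (Subtype.ext (Prod.ext h1 (by simp [(key a ha).2])))

end Ring

theorem exists_bend {R R₀ : Type u} [CommRing R] [CommRing R₀] (π : R →+* R₀) (hπ : Function.Surjective π)
    (hsq : RingHom.ker π ^ 2 = ⊥) (s : Spec (CommRingCat.of R) ⟶ S) :
    ∃ (B A₀ D : Over S) (σ : Over.mk s ⟶ B) (p : B ⟶ Over.mk s)
      (σ₀ : Over.mk (Spec.map (CommRingCat.ofHom π) ≫ s) ⟶ A₀)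
      (p₀ : A₀ ⟶ Over.mk (Spec.map (CommRingCat.ofHom π) ≫ s)) (jB : A₀ ⟶ B) (d : D ⟶ A₀),
      Bend (AlgSpLib.surjPt π s) σ p σ₀ p₀ jB d := by
  let sB : Spec (CommRingCat.of ↥(bendRing π)) ⟶ S := Spec.map (CommRingCat.ofHom (bendC π)) ≫ s
  let sA : Spec (CommRingCat.of R₀[X]) ⟶ S := Spec.map (CommRingCat.ofHom (bendSnd π)) ≫ sB
  have hsA : sA = Spec.map (CommRingCat.ofHom Polynomial.C) ≫ Spec.map (CommRingCat.ofHom π) ≫ s := by
    simp only [sA, sB, ← Spec.map_comp_assoc, ← CommRingCat.ofHom_comp, bendSnd_C]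
  let σ : Over.mk s ⟶ Over.mk sB := Over.homMk (Spec.map (CommRingCat.ofHom (bendFst π))) (by
    show Spec.map _ ≫ Spec.map _ ≫ s = s
    rw [← Spec.map_comp_assoc, ← CommRingCat.ofHom_comp, bendFst_C, CommRingCat.ofHom_id, Spec.map_id,
      Category.id_comp])
  let p : Over.mk sB ⟶ Over.mk s := Over.homMk (Spec.map (CommRingCat.ofHom (bendC π)))
  let σ₀ : Over.mk (Spec.map (CommRingCat.ofHom π) ≫ s) ⟶ Over.mk sA :=
    Over.homMk (Spec.map (CommRingCat.ofHom (evalRingHom (0 : R₀)))) (by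
      show Spec.map _ ≫ sA = _
      rw [hsA, ← Spec.map_comp_assoc, ← CommRingCat.ofHom_comp,
        show (evalRingHom (0 : R₀)).comp Polynomial.C = RingHom.id R₀ from RingHom.ext fun r => by simp,
        CommRingCat.ofHom_id, Spec.map_id, Category.id_comp]
      rfl)
  let p₀ : Over.mk sA ⟶ Over.mk (Spec.map (CommRingCat.ofHom π) ≫ s) :=
    Over.homMk (Spec.map (CommRingCat.ofHom Polynomial.C)) hsA.symm
  let jB : Over.mk sA ⟶ Over.mk sB := AlgSpLib.surjPt (bendSnd π) sB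
  let L := Localization.Away (X : R₀[X])
  let d : Over.mk (Spec.map (CommRingCat.ofHom (algebraMap R₀[X] L)) ≫ sA) ⟶ Over.mk sA :=
    Over.homMk (Spec.map (CommRingCat.ofHom (algebraMap R₀[X] L)))
  haveI hd : IsOpenImmersion d.left := IsOpenImmersion.of_isLocalization (X : R₀[X])
  refine ⟨_, _, _, σ, p, σ₀, p₀, jB, d, ⟨?_, ?_, ?_, ?_, hd, ?_, ?_, fun {𝒳 η} H t z₀ et e₀ ν a₀ hν =>
    H (bendSnd π) (bendSnd_surjective hπ) (bendSnd_ker hsq) sB t z₀ et e₀ ν a₀ hν⟩⟩
  · refine Over.OverMorphism.ext ?_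
    show Spec.map _ ≫ Spec.map _ = 𝟙 _
    rw [← Spec.map_comp, ← CommRingCat.ofHom_comp, bendFst_C, CommRingCat.ofHom_id, Spec.map_id]
  · refine Over.OverMorphism.ext ?_
    show Spec.map _ ≫ Spec.map _ = 𝟙 _
    rw [← Spec.map_comp, ← CommRingCat.ofHom_comp,
      show (evalRingHom (0 : R₀)).comp Polynomial.C = RingHom.id R₀ from RingHom.ext fun r => by simp,
      CommRingCat.ofHom_id, Spec.map_id]
  · refine Over.OverMorphism.ext ?_
    show Spec.map _ ≫ Spec.map _ = Spec.map _ ≫ Spec.map _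
    rw [← Spec.map_comp, ← Spec.map_comp, ← CommRingCat.ofHom_comp, ← CommRingCat.ofHom_comp, eval_bendSnd]
  · refine Over.OverMorphism.ext ?_
    show Spec.map _ ≫ Spec.map _ = Spec.map _ ≫ Spec.map _
    rw [← Spec.map_comp, ← Spec.map_comp, ← CommRingCat.ofHom_comp, ← CommRingCat.ofHom_comp, bendSnd_C]
  · let xB : ↥(bendRing π) := ⟨(0, X), (mem_bendRing π).2 (by simp)⟩
    letI : Algebra ↥(bendRing π) L := ((algebraMap R₀[X] L).comp (bendSnd π)).toAlgebra
    haveI : IsLocalization.Away xB L := by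
      refine { map_units := ?_, surj := ?_, exists_of_eq := ?_ }
      · rintro ⟨_, k, rfl⟩
        show IsUnit (algebraMap R₀[X] L (bendSnd π (xB ^ k)))
        rw [map_pow, map_pow]
        exact (IsLocalization.Away.algebraMap_isUnit (X : R₀[X])).pow k
      · intro z
        obtain ⟨⟨a, ⟨_, k, rfl⟩⟩, hab⟩ := IsLocalization.surj (Submonoid.powers (X : R₀[X])) z
        obtain ⟨a', ha'⟩ := bendSnd_surjective hπ a
        refine ⟨(a', ⟨xB ^ k, k, rfl⟩), ?_⟩
        show z * algebraMap R₀[X] L (bendSnd π (xB ^ k)) = algebraMap R₀[X] L (bendSnd π a')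
        rw [map_pow, ha']
        exact hab
      · intro a b h
        obtain ⟨⟨_, k, rfl⟩, hc⟩ := IsLocalization.exists_of_eq (M := Submonoid.powers (X : R₀[X]))
          (show algebraMap R₀[X] L (bendSnd π a) = algebraMap R₀[X] L (bendSnd π b) from h)
        refine ⟨⟨xB ^ (k + 1), k + 1, rfl⟩, Subtype.ext (Prod.ext ?_ ?_)⟩
        · simp [xB]
        · show (X : R₀[X]) ^ (k + 1) * a.1.2 = X ^ (k + 1) * b.1.2
          rw [pow_succ', mul_assoc, mul_assoc]
          exact congrArg (X * ·) hc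
    have := IsOpenImmersion.of_isLocalization (R := ↥(bendRing π)) (S := L) xB
    rw [Over.comp_left]
    show IsOpenImmersion (Spec.map _ ≫ Spec.map _)
    rw [← Spec.map_comp, ← CommRingCat.ofHom_comp]
    exact this
  · exact isDominantSch_spec _
      (IsLocalization.injective _ (Submonoid.powers_le.2 Polynomial.monic_X.mem_nonZeroDivisors))

end Groth.Agent.IsoNatLib.Chart
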