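import Groth.Agent.Stk19b.DMSlice.Main

/-!
# Points of the space representing a chart over an object, as spans of arrows
-/

set_option autoImplicit false
set_option linter.style.haveILetI false
set_option backward.isDefEq.respectTransparency false
set_option backward.isDefEq.respectTransparency.types false

universe u

open CategoryTheory CategoryTheory.Limits AlgebraicGeometry Opposite FibCat
open Groth.Agent.Stk19 Groth.Agent.Desc19 Groth.Agent.Stk19b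

namespace Groth.Agent.IsoNatLib.Chart

variable {S : Scheme.{u}} {𝒳 : AlgSt.Cat S}

/-- The object classified by a functor on a slice. -/
abbrev gen {U : Over S} (x : overCat U ⥤ᵇ 𝒳) : 𝒳.obj := x.obj (Over.mk (𝟙 U))

theorem gen_base {U : Over S} (x : overCat U ⥤ᵇ 𝒳) : 𝒳.p.obj (gen x) = U := x.w_obj _

/-- The arrow to the classified object. -/
abbrev toGen {U : Over S} (x : overCat U ⥤ᵇ 𝒳) (w : (overCat U).obj) : x.obj w ⟶ gen x :=
  x.map (Over.homMk w.hom (Category.comp_id _) : w ⟶ Over.mk (𝟙 U))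

theorem map_toGen {U : Over S} (x : overCat U ⥤ᵇ 𝒳) (w : (overCat U).obj) :
    𝒳.p.map (toGen x w) = eqToHom (x.w_obj w) ≫ w.hom ≫ eqToHom (gen_base x).symm :=
  based_map x _

theorem map_comp_toGen {U : Over S} (x : overCat U ⥤ᵇ 𝒳) {w w' : (overCat U).obj} (f : w ⟶ w') :
    x.map f ≫ toGen x w' = toGen x w := by
  rw [toGen, toGen, ← x.toFunctor.map_comp]
  exact congrArg x.map (Over.OverMorphism.ext (Over.w f))

variable {U T : Over S} (c : overCat T ⥤ᵇ 𝒳) (x : overCat U ⥤ᵇ 𝒳)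

/-- The right arrow of an object of the fibre product. -/
abbrev spanR (P : (fp c x).obj) : c.obj P.obj.fst ⟶ gen x := P.obj.iso.hom ≫ toGen x P.obj.snd

theorem map_spanR (P : (fp c x).obj) :
    𝒳.p.map (spanR c x P) =
      eqToHom ((c.w_obj P.obj.fst).trans (fp_base_eq P).symm) ≫ P.obj.snd.hom ≫ eqToHom (gen_base x).symm := by
  rw [spanR, 𝒳.p.map_comp, fp_iso_map P, map_toGen]
  simp

theorem spanR_natural {P Q : (fp c x).obj} (M : P ⟶ Q) : c.map M.hom.fst ≫ spanR c x Q = spanR c x P := by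
  have w : c.map M.hom.fst ≫ Q.obj.iso.hom = P.obj.iso.hom ≫ x.map M.hom.snd := M.hom.w
  rw [spanR, spanR, reassoc_of% w, map_comp_toGen]

variable {c x} {G : AlgSp.Sp S} (e : AlgSt.ofSp G ⥤ᵇ fp c x)

/-- The object of the fibre product given by a point. -/
noncomputable abbrev ptObj {T' : Over S} (γ : (AlgSp.yon S).obj T' ⟶ G) : (fp c x).obj :=
  e.obj ⟨T', GrothendieckTopology.uliftYonedaEquiv.{u + 1} (AlgSp.J S) γ⟩

/-- The object over the test scheme given by a point. -/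
noncomputable abbrev ptPt {T' : Over S} (γ : (AlgSp.yon S).obj T' ⟶ G) : 𝒳.obj := c.obj (ptObj e γ).obj.fst

theorem ptPt_base {T' : Over S} (γ : (AlgSp.yon S).obj T' ⟶ G) : 𝒳.p.obj (ptPt e γ) = T' :=
  (c.w_obj (ptObj e γ).obj.fst).trans (e.w_obj ⟨T', GrothendieckTopology.uliftYonedaEquiv.{u + 1} (AlgSp.J S) γ⟩)

/-- The point `γ` is the span `(n, a)`. -/
def IsPt {T' : Over S} (γ : (AlgSp.yon S).obj T' ⟶ G) {z : 𝒳.obj} (n : z ⟶ gen c) (a : z ⟶ gen x) : Prop :=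
  ∃ (ez : 𝒳.p.obj z = T') (k : ptPt e γ ⟶ z), 𝒳.p.map k = eqToHom ((ptPt_base e γ).trans ez.symm) ∧
    k ≫ n = toGen c (ptObj e γ).obj.fst ∧ k ≫ a = spanR c x (ptObj e γ)

theorem isPt_self {T' : Over S} (γ : (AlgSp.yon S).obj T' ⟶ G) :
    IsPt e γ (toGen c (ptObj e γ).obj.fst) (spanR c x (ptObj e γ)) :=
  ⟨ptPt_base e γ, 𝟙 _, by simp, Category.id_comp _, Category.id_comp _⟩

variable {e}

theorem isIso_of_vert (h : IsFibGrpd 𝒳.p) {a b : 𝒳.obj} (k : a ⟶ b) {he : 𝒳.p.obj a = 𝒳.p.obj b}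
    (hk : 𝒳.p.map k = eqToHom he) : IsIso k := by
  have : IsIso (𝒳.p.map k) := by rw [hk]; infer_instance
  exact fibGrpd_isIso h _

theorem exists_isPt (h : IsFibGrpd 𝒳.p) (he : IsEquivOver e) {T' : Over S} {z : 𝒳.obj} (ez : 𝒳.p.obj z = T')
    (n : z ⟶ gen c) (a : z ⟶ gen x) : ∃ γ : (AlgSp.yon S).obj T' ⟶ G, IsPt e γ n a := by
  subst ez
  let wc : (overCat T).obj := Over.mk (𝒳.p.map n ≫ eqToHom (gen_base c))
  let wx : (overCat U).obj := Over.mk (𝒳.p.map a ≫ eqToHom (gen_base x))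
  obtain ⟨k₁, hk₁m, hk₁⟩ := (fibGrpd_fac h n (toGen c wc) (eqToHom (c.w_obj wc)) (by
    rw [map_toGen]; simp [wc])).exists
  obtain ⟨l, hlm, hl⟩ := (fibGrpd_fac h (toGen x wx) a (eqToHom (x.w_obj wx).symm) (by
    rw [map_toGen]; simp [wx])).exists
  have : IsIso k₁ := isIso_of_vert h k₁ hk₁m
  have : IsIso l := isIso_of_vert h l hlm
  let Z : (fp c x).obj := fpMk wc wx (asIso (k₁ ≫ l))
    (IsHomLift.of_fac' 𝒳.p _ _ (c.w_obj wc) ((x.w_obj wx).trans rfl) (by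
      simp only [asIso_hom, 𝒳.p.map_comp, hk₁m, hlm]
      exact (eqToHom_trans _ _).trans (by simp [overCat, wc])))
  obtain ⟨γ, M, hM⟩ := Stk19b.DMSlice.exists_sec_vert he Z
  have hM' : M.hom.fst.left = eqToHom (e.w_obj ⟨𝒳.p.obj z,
      GrothendieckTopology.uliftYonedaEquiv.{u + 1} (AlgSp.J S) γ⟩) := hM
  refine ⟨γ, rfl, c.map M.hom.fst ≫ k₁, ?_, ?_, ?_⟩
  · rw [𝒳.p.map_comp, hk₁m, based_map c M.hom.fst, show (overCat T).p.map M.hom.fst = M.hom.fst.left from rfl, hM']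
    simp
  · rw [Category.assoc, hk₁]
    exact map_comp_toGen c M.hom.fst
  · refine Eq.trans ?_ (spanR_natural c x M)
    rw [Category.assoc]
    show c.map M.hom.fst ≫ k₁ ≫ a = c.map M.hom.fst ≫ (k₁ ≫ l) ≫ toGen x wx
    rw [Category.assoc, hl]

theorem ptObj_fst_hom {T' : Over S} {γ : (AlgSp.yon S).obj T' ⟶ G} {g : T' ⟶ T}
    (hγ : γ ≫ AlgSt.spMapOfOver (BasedFunctor.comp e (fpFst c x)) = (AlgSp.yon S).map g) :
    (ptObj e γ).obj.fst.hom =
      eqToHom (e.w_obj ⟨T', GrothendieckTopology.uliftYonedaEquiv.{u + 1} (AlgSp.J S) γ⟩) ≫ g :=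
  sec_fst_hom e γ hγ _

theorem map_left_of_isPt {T' : Over S} {γ : (AlgSp.yon S).obj T' ⟶ G} {g : T' ⟶ T}
    (hγ : γ ≫ AlgSt.spMapOfOver (BasedFunctor.comp e (fpFst c x)) = (AlgSp.yon S).map g)
    {z : 𝒳.obj} {n : z ⟶ gen c} {a : z ⟶ gen x} (hp : IsPt e γ n a) (ez : 𝒳.p.obj z = T') :
    𝒳.p.map n = eqToHom ez ≫ g ≫ eqToHom (gen_base c).symm := by
  obtain ⟨ez', k, hk, hn, -⟩ := hp
  have h1 := congrArg 𝒳.p.map hn
  rw [𝒳.p.map_comp, hk, map_toGen, ptObj_fst_hom hγ] at h1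
  rw [← cancel_epi (eqToHom ((ptPt_base e γ).trans ez.symm)), h1]
  simp

theorem proj_of_isPt {T' : Over S} {γ : (AlgSp.yon S).obj T' ⟶ G} {g : T' ⟶ T}
    {z : 𝒳.obj} {n : z ⟶ gen c} {a : z ⟶ gen x} (hp : IsPt e γ n a) (ez : 𝒳.p.obj z = T')
    (hn : 𝒳.p.map n = eqToHom ez ≫ g ≫ eqToHom (gen_base c).symm) :
    γ ≫ AlgSt.spMapOfOver (BasedFunctor.comp e (fpFst c x)) = (AlgSp.yon S).map g := by
  obtain ⟨g', hg'⟩ := (AlgSp.yon S).map_surjective (γ ≫ AlgSt.spMapOfOver (BasedFunctor.comp e (fpFst c x)))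
  rw [← hg']
  refine congrArg _ ?_
  have := map_left_of_isPt hg'.symm hp ez
  rw [hn, cancel_epi, cancel_mono] at this
  exact this.symm

theorem isPt_restrict (h : IsFibGrpd 𝒳.p) {T'' T' : Over S} (s : T'' ⟶ T') {γ : (AlgSp.yon S).obj T' ⟶ G}
    {z' z : 𝒳.obj} {n : z ⟶ gen c} {a : z ⟶ gen x} (hp : IsPt e γ n a) (ez' : 𝒳.p.obj z' = T'')
    (ez : 𝒳.p.obj z = T') (r : z' ⟶ z) (hr : 𝒳.p.map r = eqToHom ez' ≫ s ≫ eqToHom ez.symm) :
    IsPt e ((AlgSp.yon S).map s ≫ γ) (r ≫ n) (r ≫ a) := by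
  obtain ⟨_, k, hk, hn, ha⟩ := hp
  let m : (⟨T'', GrothendieckTopology.uliftYonedaEquiv.{u + 1} (AlgSp.J S) ((AlgSp.yon S).map s ≫ γ)⟩ :
      (AlgSt.ofSp G).obj) ⟶ ⟨T', GrothendieckTopology.uliftYonedaEquiv.{u + 1} (AlgSp.J S) γ⟩ :=
    Stk19b.yonedaElt s γ
  let M := e.map m
  let q : ptPt e ((AlgSp.yon S).map s ≫ γ) ⟶ z := c.map M.hom.fst ≫ k
  have hMf : M.hom.fst.left = eqToHom (e.w_obj _) ≫ s ≫
      eqToHom (e.w_obj ⟨T', GrothendieckTopology.uliftYonedaEquiv.{u + 1} (AlgSp.J S) γ⟩).symm :=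
    based_map e m
  obtain ⟨k', hk'm, hk'⟩ := (fibGrpd_fac h r q (eqToHom ((ptPt_base e _).trans ez'.symm)) (by
    rw [hr, 𝒳.p.map_comp, hk, based_map c M.hom.fst, show (overCat T).p.map M.hom.fst = M.hom.fst.left from rfl, hMf]
    simp
    skip)).exists
  refine ⟨ez', k', hk'm, ?_, ?_⟩
  · rw [reassoc_of% hk', Category.assoc, hn, map_comp_toGen]
  · rw [reassoc_of% hk', Category.assoc, ha, spanR_natural]

theorem isPt_ext (h : IsFibGrpd 𝒳.p) (he : IsEquivOver e) {T' : Over S} {γ γ' : (AlgSp.yon S).obj T' ⟶ G}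
    {z : 𝒳.obj} {n : z ⟶ gen c} {a : z ⟶ gen x} (hp : IsPt e γ n a) (hp' : IsPt e γ' n a) : γ = γ' := by
  obtain ⟨ez, k, hk, hn, ha⟩ := hp
  obtain ⟨_, k', hk', hn', ha'⟩ := hp'
  have := isIso_of_vert h k' hk'
  let K : ptPt e γ ⟶ ptPt e γ' := k ≫ inv k'
  let P := ptObj e γ
  let Q := ptObj e γ'
  have e₁ : P.obj.fst.left = Q.obj.fst.left :=
    (c.w_obj P.obj.fst).symm.trans ((ptPt_base e γ).trans ((ptPt_base e γ').symm.trans (c.w_obj Q.obj.fst)))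
  have e₂ : P.obj.snd.left = Q.obj.snd.left := (fp_base_eq P).trans (e₁.trans (fp_base_eq Q).symm)
  have hK : 𝒳.p.map K = eqToHom ((ptPt_base e γ).trans (ptPt_base e γ').symm) := by
    rw [𝒳.p.map_comp, hk, Functor.map_inv]
    simp [hk']
  have hKn : K ≫ toGen c Q.obj.fst = toGen c P.obj.fst := by
    rw [← hn', Category.assoc, IsIso.inv_hom_id_assoc, hn]
  have hKa : K ≫ spanR c x Q = spanR c x P := by
    rw [← ha', Category.assoc, IsIso.inv_hom_id_assoc, ha]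
  have w₁ : eqToHom e₁ ≫ Q.obj.fst.hom = P.obj.fst.hom := by
    have h1 := congrArg 𝒳.p.map hKn
    rw [𝒳.p.map_comp, hK, map_toGen, map_toGen] at h1
    rw [← cancel_mono (eqToHom (gen_base c).symm), ← cancel_epi (eqToHom (c.w_obj P.obj.fst))]
    simpa using h1
  have w₂ : eqToHom e₂ ≫ Q.obj.snd.hom = P.obj.snd.hom := by
    have h1 := congrArg 𝒳.p.map hKa
    rw [𝒳.p.map_comp, hK, map_spanR, map_spanR] at h1
    rw [← cancel_mono (eqToHom (gen_base x).symm),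
      ← cancel_epi (eqToHom ((c.w_obj P.obj.fst).trans (fp_base_eq P).symm))]
    simpa using h1
  let f : P.obj.fst ⟶ Q.obj.fst := Over.homMk (eqToHom e₁) w₁
  let g : P.obj.snd ⟶ Q.obj.snd := Over.homMk (eqToHom e₂) w₂
  have hcf : c.map f = K := fibGrpd_ext h (toGen c Q.obj.fst) (by
    rw [hK, based_map c f, show (overCat T).p.map f = eqToHom e₁ from rfl]
    simp) (by rw [map_comp_toGen, hKn])
  have w : c.map f ≫ Q.obj.iso.hom = P.obj.iso.hom ≫ x.map g := by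
    refine fibGrpd_ext h (toGen x Q.obj.snd) ?_ ?_
    · rw [𝒳.p.map_comp, 𝒳.p.map_comp, hcf, hK, fp_iso_map Q, fp_iso_map P, based_map x g,
        show (overCat U).p.map g = eqToHom e₂ from rfl]
      simp
    · rw [Category.assoc, Category.assoc, map_comp_toGen, hcf]
      exact hKa
  have := Stk19b.DMSlice.sec_eq_of_arrow he (𝟙 T') γ γ' (fpHom f g w) (by
    show eqToHom e₁ = _
    simp)
  rwa [CategoryTheory.Functor.map_id, Category.id_comp, eq_comm] at this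

theorem arrows_eq_of_isPt (h : IsFibGrpd 𝒳.p) {T' : Over S} {γ : (AlgSp.yon S).obj T' ⟶ G}
    {z : 𝒳.obj} {n : z ⟶ gen c} {a a' : z ⟶ gen x} (hp : IsPt e γ n a) (hp' : IsPt e γ n a') : a = a' := by
  obtain ⟨ez, k, hk, hn, ha⟩ := hp
  obtain ⟨_, k', hk', hn', ha'⟩ := hp'
  obtain rfl : k = k' := fibGrpd_ext h n (hk.trans hk'.symm) (hn.trans hn'.symm)
  have := isIso_of_vert h k hk
  exact (cancel_epi k).1 (ha.trans ha'.symm)

end Groth.Agent.IsoNatLib.Chart
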