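import Groth.Agent.IsoNatLib.Chart.Main
import Groth.Agent.IsoNatLib.Homeo
import Groth.Agent.Stk19.AlgSt.Points

/-!
# Chart squares are transported along an isomorphism of classes
-/

set_option autoImplicit false
set_option linter.style.haveILetI false
set_option backward.isDefEq.respectTransparency false
set_option backward.isDefEq.respectTransparency.types false

universe u

open CategoryTheory CategoryTheory.Limits AlgebraicGeometry Opposite FibCat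
open Groth.Agent.Stk19 Groth.Agent.Desc19 Groth.Agent.IsoNatLib.Twist

namespace Groth.Agent.IsoNatLib.Chart

variable {S : Scheme.{u}} {𝒳 𝒴 𝒳' 𝒴' : AlgSt.Cat S}

theorem exists_iso_of_objCls_eq (h : IsFibGrpd 𝒳.p) {U : Over S} {x x' : overCat U ⥤ᵇ 𝒳}
    (he : IsoNat.objCls x = IsoNat.objCls x') : Nonempty (x ≅ x') := by
  obtain ⟨i⟩ := Quotient.exact he
  let t : gen x ≅ gen x' := Functor.Fiber.fiberInclusion.mapIso i
  obtain ⟨e, -⟩ := yoneda_iso h x x' t i.hom.2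
  exact ⟨e⟩

theorem cls_obj (φ : IsoNat.FIso 𝒳 𝒴) (hY : IsFibGrpd 𝒴.p) {V : Over S} {y : overCat V ⥤ᵇ 𝒳}
    {y' : overCat V ⥤ᵇ 𝒴} (hy : φ.toEquiv V (IsoNat.objCls y) = IsoNat.objCls y') (k : (overCat V).obj) :
    φ.toEquiv _ (IsoNat.cls (⟨y.obj k, y.w_obj k⟩ : 𝒳.p.Fiber _)) =
      IsoNat.cls (⟨y'.obj k, y'.w_obj k⟩ : 𝒴.p.Fiber _) := by
  let Y := rep φ (⟨y.obj k, y.w_obj k⟩ : 𝒳.p.Fiber _)
  have hY' := (cls_rep φ (⟨y.obj k, y.w_obj k⟩ : 𝒳.p.Fiber _)).symm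
  obtain ⟨f, hf⟩ := exists_move φ (g := k.hom) (q := ⟨gen y, gen_base y⟩) (Q := ⟨gen y', gen_base y'⟩) hY' hy
    (toGen y k) (map_toGen y k)
  refine hY'.trans (cls_eq_of_over hY (x := ⟨gen y', gen_base y'⟩) k.hom f (toGen y' k) ?_ ?_)
  · exact IsHomLift.of_fac' 𝒴.p _ _ Y.2 (gen_base y') hf
  · exact IsHomLift.of_fac' 𝒴.p _ _ (y'.w_obj k) (gen_base y') (map_toGen y' k)

theorem surjective_transfer (hX : Good 𝒳) (hY : Good 𝒴) (φ : IsoNat.FIso 𝒳 𝒴) {U : Over S}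
    {x : overCat U ⥤ᵇ 𝒳} {y : overCat U ⥤ᵇ 𝒴}
    (hxy : ∀ t, pointsMap φ (AlgSt.Points.ofChart x t) = AlgSt.Points.ofChart y t)
    (hs : AlgSt.RepByAlgSpWith AlgSp.IsSurjectiveMor x) : AlgSt.RepByAlgSpWith AlgSp.IsSurjectiveMor y :=
  with_surjective_of_ofChart hY.alg.isStack.1 (hY.rep1 y) fun p => by
    obtain ⟨q, rfl⟩ := pointsMap_surjective φ p
    obtain ⟨t, rfl⟩ := ofChart_surjective hX.alg.isStack.1 hs q
    exact ⟨t, (hxy t).symm⟩

theorem locQ_transfer (hX : Good 𝒳) (hY : Good 𝒴) (hX' : Good 𝒳') (hY' : Good 𝒴') {f : 𝒳 ⥤ᵇ 𝒴}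
    {f' : 𝒳' ⥤ᵇ 𝒴'} (φ : IsoNat.FIsoSq f f') (P : MorphismProperty (AlgSp.Sp S)) (hf : AlgSt.LocQ P f) :
    AlgSt.LocQ P f' := by
  obtain ⟨U, V, x, y, h, α, hx, hxs, hy, hP⟩ := hf
  obtain ⟨x', hxx, hxp⟩ := exists_chart φ.src hX.alg.isStack.1 hX'.alg.isStack.1 x
  obtain ⟨y', hyy, -⟩ := exists_chart φ.tgt hY.alg.isStack.1 hY'.alg.isStack.1 y
  have hcls : IsoNat.objCls (BasedFunctor.comp x' f') =
      IsoNat.objCls (BasedFunctor.comp (AlgSt.overMap h) y') := by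
    have h1 : IsoNat.objCls (BasedFunctor.comp x' f') = φ.tgt.toEquiv U (IsoNat.mapCls f U (IsoNat.objCls x)) := by
      rw [φ.comm, hxx]
      rfl
    have h2 : IsoNat.mapCls f U (IsoNat.objCls x) = IsoNat.objCls (BasedFunctor.comp (AlgSt.overMap h) y) :=
      (show IsoNat.mapCls f U (IsoNat.objCls x) = IsoNat.objCls (BasedFunctor.comp x f) from rfl).trans
        (cls_eq_of_iso (appIso α _) (BasedNatTrans.isHomLift α.hom rfl))
    rw [h1, h2]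
    exact cls_obj φ.tgt hY'.alg.isStack.1 hyy ((Over.map h).obj (Over.mk (𝟙 U)))
  obtain ⟨α'⟩ := exists_iso_of_objCls_eq hY'.alg.isStack.1 hcls
  exact ⟨U, V, x', y', h, α', smooth_transfer hX hX' φ.src hxx hx, surjective_transfer hX hX' φ.src hxp hxs,
    smooth_transfer hY hY' φ.tgt hyy hy, hP⟩

theorem smoothLocally_transfer (hX : Good 𝒳) (hY : Good 𝒴) (φ : IsoNat.FIso 𝒳 𝒴) (P : Scheme.{u} → Prop)
    (hP : AlgSt.SmoothLocally P 𝒳) : AlgSt.SmoothLocally P 𝒴 := fun U y hy => by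
  obtain ⟨x, hxy, -⟩ := exists_chart (symmFIso φ hX.alg.isStack.1 hY.alg.isStack.1) hY.alg.isStack.1 hX.alg.isStack.1 y
  exact hP U x (smooth_transfer hY hX _ hxy hy)

end Groth.Agent.IsoNatLib.Chart
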