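import Groth.Agent.IsoNatLib.Twist.Doubling
import Mathlib.AlgebraicGeometry.Gluing

/-!
# Many copies of a scheme glued along a common open part
-/

set_option autoImplicit false
set_option linter.style.haveILetI false
set_option backward.isDefEq.respectTransparency false
set_option backward.isDefEq.respectTransparency.types false

universe u

open CategoryTheory CategoryTheory.Limits AlgebraicGeometry Opposite FibCat
open Groth.Agent.Stk19 Groth.Agent.Desc19

namespace Groth.Agent.IsoNatLib.Chart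

variable {S : Scheme.{u}} {𝒳 : AlgSt.Cat S}

/-- Charts glued along their common open part. -/
structure Star {L W : Over S} (j : W ⟶ L) {κ : Type u} (P : Over S) (ι : κ → (L ⟶ P)) : Prop where
  mono : ∀ k, Mono (ι k)
  mono_j : Mono j
  w : ∀ k k', j ≫ ι k = j ≫ ι k'
  sq : ∀ k k', k ≠ k' → IsPullback j j (ι k) (ι k')
  cover : Sieve.ofArrows (fun _ : κ => L) ι ∈ AlgSp.J S P

/-- Copies of a scheme glue along an open part, and maps agreeing on it descend. -/
theorem exists_star {L W : Over S} (j : W ⟶ L) [IsOpenImmersion j.left] (κ : Type u) (k₀ : κ) :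
    ∃ (P : Over S) (ι : κ → (L ⟶ P)), Star j P ι ∧
      ∀ {T : Over S} (f : κ → (L ⟶ T)), (∀ k k', j ≫ f k = j ≫ f k') → ∃ π : P ⟶ T, ∀ k, ι k ≫ π = f k := by
  let i : W.left ⟶ L.left := j.left
  haveI : IsOpenImmersion i := inferInstanceAs (IsOpenImmersion j.left)
  let D := WidePushoutShape.wideSpan W.left (fun _ : κ => L.left) (fun _ => i)
  haveI hD : ∀ {a b : WidePushoutShape κ} (f : a ⟶ b), IsOpenImmersion (D.map f) := fun {a b} f => by
    cases f with
    | id => rw [show WidePushoutShape.Hom.id a = 𝟙 a from rfl, D.map_id]; infer_instance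
    | init k => exact inferInstanceAs (IsOpenImmersion i)
  haveI : HasWidePushout W.left (fun _ : κ => L.left) (fun _ => i) := inferInstanceAs (HasColimit D)
  let Pl : Scheme.{u} := widePushout W.left (fun _ : κ => L.left) (fun _ => i)
  let P : Over S := Over.mk (WidePushout.desc (i ≫ L.hom) (fun _ => L.hom) (fun _ => rfl) : Pl ⟶ S)
  let ι : κ → (L ⟶ P) := fun k => Over.homMk (WidePushout.ι (fun _ : κ => i) k) (WidePushout.ι_desc _ _ _ _ k)
  haveI hι : ∀ k, IsOpenImmersion (ι k).left := fun k =>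
    inferInstanceAs (IsOpenImmersion (colimit.ι D (some k)))
  haveI hm : ∀ k, Mono (ι k) := fun k => (Over.forget S).mono_of_mono_map (inferInstanceAs (Mono (ι k).left))
  haveI hj : Mono j := (Over.forget S).mono_of_mono_map (inferInstanceAs (Mono i))
  have hw : ∀ k k', j ≫ ι k = j ≫ ι k' := fun k k' => Over.OverMorphism.ext
    ((WidePushout.arrow_ι (fun _ : κ => i) k).trans (WidePushout.arrow_ι (fun _ : κ => i) k').symm)
  refine ⟨P, ι, ⟨hm, hj, hw, fun k k' hkk => ?_, ?_⟩, fun {T} f hf => ?_⟩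
  · have hbad : ∀ (a b : ↥L.left), (ι k).left a = (ι k').left b → a ∈ Set.range i := by
      intro a b hab
      obtain ⟨l, f, g, z, hz1, hz2⟩ := Scheme.IsLocallyDirected.ι_eq_ι_iff (F := D)
        (i := some k) (j := some k') |>.1 hab
      cases f with
      | init _ => exact ⟨z, hz1⟩
      | id =>
        cases g with
        | id => exact absurd rfl hkk
    refine ⟨⟨hw k k'⟩, ⟨PullbackCone.IsLimit.mk _ (fun s => Over.homMk (IsOpenImmersion.lift i s.fst.left ?_) ?_)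
      (fun s => ?_) (fun s => ?_) (fun s m h1 h2 => ?_)⟩⟩
    · rintro _ ⟨z, rfl⟩
      refine hbad _ (s.snd.left z) ?_
      rw [← Scheme.Hom.comp_apply, ← Scheme.Hom.comp_apply]
      exact congrArg (fun f => f z) (congrArg CommaMorphism.left s.condition)
    · rw [← Over.w j, IsOpenImmersion.lift_fac_assoc]
      exact Over.w s.fst
    · exact Over.OverMorphism.ext (IsOpenImmersion.lift_fac _ _ _)
    · refine (cancel_mono (ι k')).1 ((Category.assoc _ _ _).trans ((congrArg (_ ≫ ·) (hw k k').symm).trans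
        (Eq.trans ?_ s.condition)))
      exact Over.OverMorphism.ext (IsOpenImmersion.lift_fac_assoc _ _ _ _)
    · refine (cancel_mono j).1 (h1.trans (Eq.symm ?_))
      exact Over.OverMorphism.ext (IsOpenImmersion.lift_fac _ _ _)
  · refine AlgSpLib.ofArrows_mem_J _ fun q => ?_
    obtain ⟨l, y, rfl⟩ := (Scheme.IsLocallyDirected.openCover D).exists_eq q
    rcases l with _ | k
    · exact ⟨k₀, i y, congrArg (fun f => f y) (colimit.w D (WidePushoutShape.Hom.init k₀))⟩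
    · exact ⟨k, y, rfl⟩
  · let π₀ : Pl ⟶ T.left := WidePushout.desc (i ≫ (f k₀).left) (fun k => (f k).left)
      (fun k => congrArg CommaMorphism.left (hf k k₀))
    have hπ : ∀ k, WidePushout.ι (fun _ : κ => i) k ≫ π₀ = (f k).left := fun k => WidePushout.ι_desc _ _ _ _ k
    have hP : ∀ k, WidePushout.ι (fun _ : κ => i) k ≫ P.hom = L.hom := fun k => WidePushout.ι_desc _ _ _ _ k
    refine ⟨Over.homMk π₀ ?_, fun k => Over.OverMorphism.ext (hπ k)⟩
    refine WidePushout.hom_ext (fun _ : κ => i) _ _ (fun k => ?_) ?_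
    · rw [reassoc_of% (hπ k), hP]
      exact Over.w (f k)
    · rw [← WidePushout.arrow_ι (fun _ : κ => i) k₀, Category.assoc, Category.assoc, reassoc_of% (hπ k₀), hP]
      exact congrArg (i ≫ ·) (Over.w (f k₀))

variable {κ : Type u} {L W P : Over S}

/-- An arrow from charts agreeing on the overlap. -/
theorem exists_of_star (hS : Stk.IsStack (AlgSp.J S) 𝒳) {j : W ⟶ L} {ι : κ → (L ⟶ P)} (hD : Star j P ι)
    {x y : 𝒳.obj} (hx : 𝒳.p.obj x = P) (hy : 𝒳.p.obj y = P) {zW : 𝒳.obj} (hW : 𝒳.p.obj zW = W)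
    {z : κ → 𝒳.obj} (hz : ∀ k, 𝒳.p.obj (z k) = L)
    (μ : ∀ k, z k ⟶ x) (τ : ∀ k, z k ⟶ y) (w : ∀ k, zW ⟶ z k)
    (hμ : ∀ k, 𝒳.p.map (μ k) = eqToHom (hz k) ≫ ι k ≫ eqToHom hx.symm)
    (hτ : ∀ k, 𝒳.p.map (τ k) = eqToHom (hz k) ≫ ι k ≫ eqToHom hy.symm)
    (hw : ∀ k, 𝒳.p.map (w k) = eqToHom hW ≫ j ≫ eqToHom (hz k).symm)
    (hwμ : ∀ k k', w k ≫ μ k = w k' ≫ μ k') (hwτ : ∀ k k', w k ≫ τ k = w k' ≫ τ k') :
    ∃ χ : x ⟶ y, 𝒳.p.map χ = eqToHom (hx.trans hy.symm) ∧ ∀ k, μ k ≫ χ = τ k := by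
  let R := Sieve.ofArrows (fun _ : κ => L) ι
  haveI := hD.mono
  subst hx
  have hfac : ∀ (c : 𝒳.obj) (m : c ⟶ x), R.arrows (𝒳.p.map m ≫ eqToHom rfl) →
      ∃ (k : κ) (ω : c ⟶ z k), ω ≫ μ k = m := by
    intro c m hm
    rw [eqToHom_refl, Category.comp_id] at hm
    obtain ⟨k, l, hl⟩ := (Sieve.mem_ofArrows_iff _ _ _).1 hm
    obtain ⟨ω, ⟨-, hω⟩, -⟩ := fibGrpd_fac hS.1 (μ k) m (l ≫ eqToHom (hz k).symm) (by
      rw [hμ]
      simp [hl])
    exact ⟨k, ω, hω⟩
  choose K ω hω using hfac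
  have hsame : ∀ (c : 𝒳.obj) (k : κ) (f f' : c ⟶ z k), f ≫ μ k = f' ≫ μ k → f = f' := by
    intro c k f f' h
    refine fibGrpd_ext hS.1 (μ k) ?_ h
    have h' := congrArg 𝒳.p.map h
    rw [𝒳.p.map_comp, 𝒳.p.map_comp, hμ, eqToHom_refl, Category.comp_id] at h'
    exact (cancel_mono (eqToHom (hz k) ≫ ι k)).1 h'
  have hany : ∀ (c : 𝒳.obj) (k₁ k₂ : κ) (f₁ : c ⟶ z k₁) (f₂ : c ⟶ z k₂),
      f₁ ≫ μ k₁ = f₂ ≫ μ k₂ → f₁ ≫ τ k₁ = f₂ ≫ τ k₂ := by
    intro c k₁ k₂ f f' h
    by_cases hk : k₁ = k₂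
    · subst hk; rw [hsame _ _ _ _ h]
    have h' := congrArg 𝒳.p.map h
    rw [𝒳.p.map_comp, 𝒳.p.map_comp, hμ, hμ] at h'
    simp only [eqToHom_refl, Category.comp_id, ← Category.assoc] at h'
    let l := (hD.sq k₁ k₂ hk).lift _ _ h'
    obtain ⟨g, ⟨hgm, hg⟩, -⟩ := fibGrpd_fac hS.1 (w k₁) f (l ≫ eqToHom hW.symm) (by
      rw [hw]
      simp only [Category.assoc, eqToHom_trans_assoc, eqToHom_refl, Category.id_comp, l]
      rw [(hD.sq k₁ k₂ hk).lift_fst_assoc]
      simp)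
    have h2 : f' = g ≫ w k₂ := hsame c k₂ _ _ (by rw [← h, ← hg, Category.assoc, Category.assoc, hwμ k₁ k₂])
    rw [h2, ← hg, Category.assoc, Category.assoc, hwτ k₁ k₂]
  obtain ⟨χ, ⟨hχ, hspec⟩, -⟩ := (isPrestackFor_iff_glue hS.1 R).1 ((isStack_isPrestack hS).2 R hD.cover)
    x y rfl hy (fun c m hm => ω c m hm ≫ τ (K c m hm))
    (fun c m hm => by
      conv_rhs => rw [← hω c m hm, 𝒳.p.map_comp, hμ]
      rw [𝒳.p.map_comp, hτ]
      simp)
    (fun c' c g m hm hm' => by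
      rw [← Category.assoc]
      exact hany _ _ _ _ _ (by rw [hω, Category.assoc, hω]))
  refine ⟨χ, hχ, fun s => ?_⟩
  have hm : R.arrows (𝒳.p.map (μ s) ≫ eqToHom rfl) := by
    rw [eqToHom_refl, Category.comp_id, hμ, eqToHom_refl, Category.comp_id]
    exact R.downward_closed (Sieve.ofArrows_mk _ _ s) _
  rw [hspec _ (μ s) hm]
  simpa using hany _ _ s (ω _ (μ s) hm) (𝟙 (z s)) (by rw [hω, Category.id_comp])

end Groth.Agent.IsoNatLib.Chart
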