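import Groth.Agent.IsoNatLib.Chart.Bend
import Groth.Agent.IsoNatLib.Chart.StarTwist
import Groth.Agent.IsoNatLib.Twist.Abelian

/-!
# Infinitesimal lifting of a chart is read on isomorphism classes
-/

set_option autoImplicit false
set_option linter.style.haveILetI false
set_option backward.isDefEq.respectTransparency false
set_option backward.isDefEq.respectTransparency.types false

universe u

open CategoryTheory CategoryTheory.Limits AlgebraicGeometry Opposite FibCat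
open Groth.Agent.Stk19 Groth.Agent.Desc19 Groth.Agent.IsoNatLib.Twist

namespace Groth.Agent.IsoNatLib.Chart

variable {S : Scheme.{u}} {𝒳 𝒴 : AlgSt.Cat S}

/-- Move an arrow to representatives of the corresponding classes. -/
theorem exists_move (ψ : IsoNat.FIso 𝒴 𝒳) {T' T : Over S} {g : T' ⟶ T} {p : 𝒴.p.Fiber T'} {q : 𝒴.p.Fiber T}
    {P : 𝒳.p.Fiber T'} {Q : 𝒳.p.Fiber T} (hP : ψ.toEquiv T' (IsoNat.cls p) = IsoNat.cls P)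
    (hQ : ψ.toEquiv T (IsoNat.cls q) = IsoNat.cls Q) (f : p.1 ⟶ q.1)
    (hf : 𝒴.p.map f = eqToHom p.2 ≫ g ≫ eqToHom q.2.symm) :
    ∃ f' : P.1 ⟶ Q.1, 𝒳.p.map f' = eqToHom P.2 ≫ g ≫ eqToHom Q.2.symm := by
  obtain ⟨p₁, q₁, b, hb, hp₁, hq₁⟩ := ψ.natural g p q f (IsHomLift.of_fac' 𝒴.p _ _ p.2 q.2 hf)
  obtain ⟨f', hf'⟩ := exists_hom_of_cls b hb (hp₁.symm.trans hP) (hq₁.symm.trans hQ)
  haveI := hf'
  exact ⟨f', IsHomLift.fac' 𝒳.p g f'⟩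

theorem exists_lift_aux (hX : Stk.IsStack (AlgSp.J S) 𝒳) (hY : Stk.IsStack (AlgSp.J S) 𝒴)
    (hd : AlgSt.RepByAlgSpWith AlgSp.IsSeparatedMor (FibCat.diag (toSelf 𝒴))) (φ : IsoNat.FIso 𝒳 𝒴)
    {η : 𝒴.obj} {ξ : 𝒳.p.Fiber (𝒴.p.obj η)}
    (hη : φ.toEquiv _ (IsoNat.cls ξ) = IsoNat.cls (⟨η, rfl⟩ : 𝒴.p.Fiber _)) (H : Lifts ξ.1)
    {T T₀ B A₁ D : Over S} {j : T₀ ⟶ T} {σ : T ⟶ B} {p : B ⟶ T} {σ₀ : T₀ ⟶ A₁} {p₀ : A₁ ⟶ T₀} {jB : A₁ ⟶ B}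
    {d : D ⟶ A₁} (G : Bend j σ p σ₀ p₀ jB d) (t z₀ : 𝒴.obj) (et : 𝒴.p.obj t = T) (e₀ : 𝒴.p.obj z₀ = T₀)
    (ν : z₀ ⟶ t) (a₀ : z₀ ⟶ η) (hν : 𝒴.p.map ν = eqToHom e₀ ≫ j ≫ eqToHom et.symm) :
    ∃ a : t ⟶ η, ν ≫ a = a₀ := by
  let ψ := symmFIso φ hX.1 hY.1
  have h := hY.1
  have hηψ : ψ.toEquiv _ (IsoNat.cls (⟨η, rfl⟩ : 𝒴.p.Fiber _)) = IsoNat.cls ξ := by
    show (φ.toEquiv _).symm _ = _
    rw [← hη, Equiv.symm_apply_apply]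
  haveI := G.open₀
  haveI := G.open₁
  let e : D ⟶ B := d ≫ jB
  let u₀ := eqToHom e₀.symm ≫ 𝒴.p.map a₀
  have ma₀ : 𝒴.p.map a₀ = eqToHom e₀ ≫ u₀ := by simp [u₀]
  -- the objects on the charts
  obtain ⟨yB, ρ, eB, hρ⟩ := fibGrpd_lift h t (p ≫ eqToHom et.symm)
  obtain ⟨zA, κA, eA, hκA⟩ := fibGrpd_lift h z₀ (p₀ ≫ eqToHom e₀.symm)
  obtain ⟨s', hs'm, hs'⟩ := (fibGrpd_fac h ρ (κA ≫ ν) (eqToHom eA ≫ jB ≫ eqToHom eB.symm) (by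
    rw [hρ, 𝒴.p.map_comp, hκA, hν]; simp [reassoc_of% G.hp])).exists
  obtain ⟨zD, δ, eD, hδ⟩ := fibGrpd_lift h zA (d ≫ eqToHom eA.symm)
  -- the twisted object
  let Γ : Type u := {γ : z₀ ⟶ z₀ // 𝒴.p.map γ = 𝟙 _}
  let one : Γ := ⟨𝟙 _, 𝒴.p.map_id _⟩
  choose γA hγA using fun γ : Γ => exists_res h κA γ.2
  choose γD hγD using fun γ : Γ => exists_res h δ (hγA γ).map_eq
  obtain ⟨P, ι, hP, hdP⟩ := exists_star e Γ one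
  obtain ⟨P₀, ι₀, hP₀, hdP₀⟩ := exists_star d Γ one
  obtain ⟨ιP, hιP⟩ := hdP₀ (fun γ => jB ≫ ι γ) (fun k k' => by simpa [e] using hP.w k k')
  obtain ⟨πP, hπP⟩ := hdP (fun _ => p) (fun _ _ => rfl)
  obtain ⟨π₀, hπ₀⟩ := hdP₀ (fun _ => p₀) (fun _ _ => rfl)
  haveI hmι := hP.mono
  haveI hmι₀ := hP₀.mono
  have hmap_w : 𝒴.p.map (δ ≫ s') = eqToHom eD ≫ e ≫ eqToHom eB.symm := by
    rw [𝒴.p.map_comp, hδ, hs'm]; simp [e]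
  subst eB
  subst et
  simp only [eqToHom_refl, Category.id_comp, Category.comp_id] at hρ
  obtain ⟨x, hx, μ, hμm, hμ⟩ := exists_star_twist hY one πP ι ρ (δ ≫ s') (fun γ => by rw [hπP, hρ]) (by
    rw [hmap_w]; subst eD; simpa using hP) γD (fun γ => (hγD γ).map_eq)
  obtain ⟨zP, ζ₀, eP, hζ₀⟩ := fibGrpd_lift h z₀ (π₀ ≫ eqToHom e₀.symm)
  obtain ⟨x₀, ζ', ex₀, hζ'⟩ := fibGrpd_lift h x (ιP ≫ eqToHom hx.symm)
  choose m hm _ using fun γ : Γ => fibGrpd_fac h ζ₀ κA (eqToHom eA ≫ ι₀ γ ≫ eqToHom eP.symm) (by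
    rw [hζ₀, hκA]; simp [reassoc_of% (hπ₀ γ)])
  choose τ hτ _ using fun γ : Γ => fibGrpd_fac h ζ' (γA γ ≫ s' ≫ μ γ) (eqToHom eA ≫ ι₀ γ ≫ eqToHom ex₀.symm) (by
    rw [hζ', 𝒴.p.map_comp, 𝒴.p.map_comp, (hγA γ).map_eq, hs'm, hμm]; simp [reassoc_of% (hιP γ)])
  obtain ⟨χ, hχ, hmχ⟩ := exists_of_star hY hP₀ eP ex₀ eD (z := fun _ => zA) (fun _ => eA) m τ
    (fun _ => δ) (fun γ => (hm γ).1) (fun γ => (hτ γ).1) (fun _ => hδ)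
    (fun k k' => fibGrpd_ext h ζ₀ (by
        simp only [𝒴.p.map_comp, (hm _).1, hδ]
        simp [reassoc_of% (hP₀.w k k')]) (by simp only [Category.assoc, (hm _).2]))
    (fun k k' => fibGrpd_ext h ζ' (by
        simp only [𝒴.p.map_comp, (hτ _).1, hδ]
        simp [reassoc_of% (hP₀.w k k')]) (by
        simp only [Category.assoc, (hτ _).2, ← reassoc_of% (hγD _).comm]
        simpa using hμ k k'))
  let ζ : zP ⟶ x := χ ≫ ζ'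
  have hζm : 𝒴.p.map ζ = eqToHom eP ≫ ιP ≫ eqToHom hx.symm := by
    rw [𝒴.p.map_comp, hχ, hζ']; simp
  -- in the other stack the object comes from the chart
  let Xy := rep ψ (⟨yB, rfl⟩ : 𝒴.p.Fiber _)
  let Xx := rep ψ (⟨x, hx⟩ : 𝒴.p.Fiber P)
  let Xz := rep ψ (⟨zP, eP⟩ : 𝒴.p.Fiber P₀)
  let Xz₀ := rep ψ (⟨z₀, e₀⟩ : 𝒴.p.Fiber _)
  have hXy := (cls_rep ψ (⟨yB, rfl⟩ : 𝒴.p.Fiber _)).symm
  have hXx := (cls_rep ψ (⟨x, hx⟩ : 𝒴.p.Fiber P)).symm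
  have hXz := (cls_rep ψ (⟨zP, eP⟩ : 𝒴.p.Fiber P₀)).symm
  have hXz₀ := (cls_rep ψ (⟨z₀, e₀⟩ : 𝒴.p.Fiber _)).symm
  choose μ' hμ' using fun γ => exists_move ψ (g := ι γ) hXy hXx (μ γ) (by
    show 𝒴.p.map (μ γ) = _; rw [hμm]; simp)
  obtain ⟨Z, hZ⟩ := exists_move ψ (g := ιP) hXz hXx ζ (by exact hζm)
  obtain ⟨Z₀, hZ₀⟩ := exists_move ψ (g := π₀) hXz hXz₀ ζ₀ (by exact hζ₀.trans (by simp))
  obtain ⟨a₀', ha₀'⟩ := exists_move ψ (g := u₀) hXz₀ hηψ a₀ (by simp [ma₀])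
  have h' := hX.1
  obtain ⟨zA', sX, eA', hsX⟩ := fibGrpd_lift h' Xy.1 (jB ≫ eqToHom Xy.2.symm)
  choose n hn _ using fun γ : Γ => fibGrpd_fac h' Z (sX ≫ μ' γ) (eqToHom eA' ≫ ι₀ γ ≫ eqToHom Xz.2.symm) (by
    rw [hZ, 𝒳.p.map_comp, hsX, hμ']; simp [reassoc_of% (hιP γ)])
  choose c hc using fun γ : Γ => G.lift H Xy.1 zA' Xy.2 eA' sX (n γ ≫ Z₀ ≫ a₀') hsX
  let ug : Γ → (𝒴.p.obj yB ⟶ 𝒴.p.obj η) := fun γ => eqToHom Xy.2.symm ≫ 𝒳.p.map (c γ) ≫ eqToHom ξ.2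
  have hug : ∀ γ, jB ≫ ug γ = p₀ ≫ u₀ := fun γ => by
    have h1 := congrArg 𝒳.p.map (hc γ)
    simp only [𝒳.p.map_comp, hsX, (hn γ).1, hZ₀, ha₀'] at h1
    rw [← cancel_epi (eqToHom eA'), ← cancel_mono (eqToHom ξ.2.symm)]
    simp only [ug, Category.assoc, eqToHom_trans, eqToHom_refl, Category.comp_id]
    simpa [reassoc_of% (hπ₀ γ)] using h1
  obtain ⟨g, hg⟩ := hdP ug (fun k k' => by simp [e, hug])
  obtain ⟨ξP, aP, eξ, haP⟩ := fibGrpd_lift h' ξ.1 (g ≫ eqToHom ξ.2.symm)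
  choose α hα _ using fun γ : Γ => fibGrpd_fac h' aP (c γ) (eqToHom Xy.2 ≫ ι γ ≫ eqToHom eξ.symm) (by
    rw [haP]; simp [reassoc_of% (hg γ), ug])
  obtain ⟨zD', δX, eD', hδX⟩ := fibGrpd_lift h' zA' (d ≫ eqToHom eA'.symm)
  obtain ⟨xD, mD, exD, hmD⟩ := fibGrpd_lift h' Xx.1 (e ≫ ι one ≫ eqToHom Xx.2.symm)
  choose q hq _ using fun γ : Γ => fibGrpd_fac h' (μ' γ) mD (eqToHom exD ≫ e ≫ eqToHom Xy.2.symm) (by
    rw [hμ', hmD]; simp [reassoc_of% (hP.w γ one)])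
  choose dq hdq _ using fun γ : Γ => fibGrpd_fac h' sX (q γ) (eqToHom exD ≫ d ≫ eqToHom eA'.symm) (by
    rw [hsX, (hq γ).1]; simp [e])
  obtain ⟨χX, hχX, -⟩ := exists_of_star hX hP Xx.2 eξ exD (z := fun _ => Xy.1) (fun _ => Xy.2) μ' α q hμ'
    (fun γ => (hα γ).1) (fun γ => (hq γ).1) (fun k k' => by rw [(hq k).2, (hq k').2])
    (fun k k' => by
      refine fibGrpd_ext h' aP ?_ ?_
      · simp only [𝒳.p.map_comp, (hq _).1, (hα _).1]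
        simp [reassoc_of% (hP.w k k')]
      · simp only [Category.assoc, (hα _).2]
        rw [← (hdq k).2, ← (hdq k').2, Category.assoc, Category.assoc, hc, hc]
        have : dq k ≫ n k = dq k' ≫ n k' := by
          refine fibGrpd_ext h' Z ?_ ?_
          · simp only [𝒳.p.map_comp, (hdq _).1, (hn _).1]
            simp [reassoc_of% (hP₀.w k k')]
          · simp only [Category.assoc, (hn _).2, reassoc_of% (hdq _).2, (hq _).2]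
        rw [reassoc_of% this])
  -- transfer back
  have back : ∀ {T : Over S} (w : 𝒴.p.Fiber T) {W : 𝒳.p.Fiber T}, ψ.toEquiv T (IsoNat.cls w) = IsoNat.cls W →
      φ.toEquiv T (IsoNat.cls W) = IsoNat.cls w := fun w W hw => by
    rw [← hw]
    exact (φ.toEquiv _).apply_symm_apply _
  obtain ⟨ev, hev⟩ := exists_move φ (g := g) (back _ hXx) hη (χX ≫ aP) (by
    rw [𝒳.p.map_comp, hχX, haP]; simp)
  have mev : 𝒴.p.map ev = eqToHom hx ≫ g := by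
    rw [hev]; simp
  have hbm : ∀ k, 𝒴.p.map (m k ≫ ζ ≫ ev) = eqToHom eA ≫ p₀ ≫ u₀ := fun k => by
    simp only [𝒴.p.map_comp, (hm k).1, hζm, mev]
    simp [reassoc_of% (hιP k), hg, hug]
  have hindep : ∀ k, m k ≫ ζ ≫ ev = m one ≫ ζ ≫ ev := fun k => by
    refine hom_ext_of_dominant h hd _ _ ((hbm k).trans (hbm one).symm) δ ?_ ?_
    · rw [hδ]
      intro E i _ l hl
      subst eA eD
      exact G.dom i l (by simpa using hl)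
    · have : δ ≫ m k = δ ≫ m one := fibGrpd_ext h ζ₀ (by
        simp only [𝒴.p.map_comp, (hm _).1, hδ]
        simp [reassoc_of% (hP₀.w k one)]) (by simp only [Category.assoc, (hm _).2])
      rw [reassoc_of% this]
  obtain ⟨ω₀, hω₀m, hω₀⟩ := (fibGrpd_fac h κA (𝟙 z₀) (eqToHom e₀ ≫ σ₀ ≫ eqToHom eA.symm) (by
    rw [hκA, 𝒴.p.map_id]; simp [reassoc_of% G.sec₀])).exists
  obtain ⟨ω, hωm, hω⟩ := (fibGrpd_fac h ρ (𝟙 t) σ (by rw [hρ, G.sec, 𝒴.p.map_id])).exists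
  let b := ω₀ ≫ m one ≫ ζ ≫ ev
  have hb : 𝒴.p.map b = 𝒴.p.map a₀ := by
    rw [𝒴.p.map_comp, hω₀m, hbm, ma₀]; simp [reassoc_of% G.sec₀]
  obtain ⟨γ, hγm, hγ⟩ := (fibGrpd_fac h a₀ b (𝟙 _) (by rw [Category.id_comp, hb])).exists
  let k : Γ := ⟨γ, hγm⟩
  refine ⟨ω ≫ μ k ≫ ev, ?_⟩
  have hνω : ν ≫ ω = ω₀ ≫ s' := fibGrpd_ext h ρ (by
    rw [𝒴.p.map_comp, 𝒴.p.map_comp, hν, hωm, hω₀m, hs'm]; simp [reassoc_of% G.hσ, G.hσ]) (by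
    rw [Category.assoc, hω, Category.comp_id, Category.assoc, hs', ← Category.assoc, hω₀, Category.id_comp])
  have hmk : m k ≫ ζ = γA k ≫ s' ≫ μ k := by
    rw [← (hτ k).2, ← hmχ k, Category.assoc]
  have hω₀γ : ω₀ ≫ γA k = γ ≫ ω₀ := fibGrpd_ext h κA
    (by rw [𝒴.p.map_comp, 𝒴.p.map_comp, (hγA k).map_eq, hγm]; simp)
    (by rw [Category.assoc, (hγA k).comm, reassoc_of% hω₀, Category.assoc, hω₀, Category.comp_id])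
  haveI := isIso_of_map h hγm
  rw [← cancel_epi γ]
  refine Eq.trans ?_ hγ.symm
  show γ ≫ ν ≫ ω ≫ μ k ≫ ev = ω₀ ≫ m one ≫ ζ ≫ ev
  rw [← hindep k, reassoc_of% hmk, reassoc_of% hνω, reassoc_of% hω₀γ]

theorem lifts_transfer (hX : Stk.IsStack (AlgSp.J S) 𝒳) (hY : Stk.IsStack (AlgSp.J S) 𝒴)
    (hd : AlgSt.RepByAlgSpWith AlgSp.IsSeparatedMor (FibCat.diag (toSelf 𝒴))) (φ : IsoNat.FIso 𝒳 𝒴)
    {U : Over S} {ξ : 𝒳.p.Fiber U} {η : 𝒴.p.Fiber U} (hη : φ.toEquiv U (IsoNat.cls ξ) = IsoNat.cls η)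
    (H : Lifts ξ.1) : Lifts η.1 := by
  intro A A₀ _ _ π hπ hsq s t z₀ et e₀ ν a₀ hν
  obtain ⟨η, eη⟩ := η
  subst eη
  obtain ⟨B, A₁, D, σ, p, σ₀, p₀, jB, d, G⟩ := exists_bend π hπ hsq s
  exact exists_lift_aux hX hY hd φ hη H G t z₀ et e₀ ν a₀ hν

end Groth.Agent.IsoNatLib.Chart
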