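import Groth.Agent.IsoNatLib.Chart.AutLim
import Groth.Agent.IsoNatLib.Chart.TransferSmooth

/-!
# Limit lifting of a chart is read on isomorphism classes
-/

set_option autoImplicit false
set_option linter.style.haveILetI false
set_option backward.isDefEq.respectTransparency false
set_option backward.isDefEq.respectTransparency.types false

universe u

open CategoryTheory CategoryTheory.Limits AlgebraicGeometry Opposite FibCat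
open Groth.Agent.Stk19 Groth.Agent.Desc19 Groth.Agent.IsoNatLib.Twist

namespace Groth.Agent.IsoNatLib.Chart

variable {S : Scheme.{u}} {𝒳 𝒴 : AlgSt.Cat S}

/-- A class read backwards. -/
theorem cls_back (φ : IsoNat.FIso 𝒳 𝒴) (hX : IsFibGrpd 𝒳.p) (hY : IsFibGrpd 𝒴.p) {T : Over S} (w : 𝒴.p.Fiber T)
    {W : 𝒳.p.Fiber T} (hw : (symmFIso φ hX hY).toEquiv T (IsoNat.cls w) = IsoNat.cls W) :
    φ.toEquiv T (IsoNat.cls W) = IsoNat.cls w := by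
  rw [← hw]
  exact (φ.toEquiv _).apply_symm_apply _

theorem limLifts_transfer (hX : IsFibGrpd 𝒳.p) (hY : IsFibGrpd 𝒴.p) (hA : AutLim 𝒴) (φ : IsoNat.FIso 𝒳 𝒴)
    {U : Over S} {ξ : 𝒳.p.Fiber U} {η : 𝒴.p.Fiber U} (hη : φ.toEquiv U (IsoNat.cls ξ) = IsoNat.cls η)
    (H : LimLifts ξ.1) : LimLifts η.1 := by
  intro I _ _ D cn hcn hD hpt i t z et ez ν a hν
  let ψ := symmFIso φ hX hY
  have hηψ : ψ.toEquiv _ (IsoNat.cls η) = IsoNat.cls ξ := by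
    show (φ.toEquiv _).symm _ = _
    rw [← hη, Equiv.symm_apply_apply]
  let u : cn.pt ⟶ U := eqToHom ez.symm ≫ 𝒴.p.map a ≫ eqToHom η.2
  let T' := rep ψ (⟨t, et⟩ : 𝒴.p.Fiber _)
  let Z := rep ψ (⟨z, ez⟩ : 𝒴.p.Fiber _)
  have hT' := (cls_rep ψ (⟨t, et⟩ : 𝒴.p.Fiber _)).symm
  have hZ := (cls_rep ψ (⟨z, ez⟩ : 𝒴.p.Fiber _)).symm
  obtain ⟨a', ha'⟩ := exists_move ψ (g := u) hZ hηψ a (by simp [u])
  obtain ⟨ν', hν'⟩ := exists_move ψ (g := cn.π.app i) hZ hT' ν (by exact hν)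
  obtain ⟨k, φk, tk', ek', r', νk', ak', hr', hνk', hνr', hνa'⟩ :=
    H D cn hcn hD hpt i T'.1 Z.1 T'.2 Z.2 ν' a' hν'
  let uk : D.obj k ⟶ U := eqToHom ek'.symm ≫ 𝒳.p.map ak' ≫ eqToHom ξ.2
  have huk : cn.π.app k ≫ uk = u := by
    have h1 := congrArg 𝒳.p.map hνa'
    rw [𝒳.p.map_comp, hνk', ha'] at h1
    rw [← cancel_epi (eqToHom Z.2), ← cancel_mono (eqToHom ξ.2.symm)]
    simpa [uk] using h1
  let Y := rep φ (⟨tk', ek'⟩ : 𝒳.p.Fiber _)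
  have hY' := (cls_rep φ (⟨tk', ek'⟩ : 𝒳.p.Fiber _)).symm
  obtain ⟨r, hr⟩ := exists_move φ (g := D.map φk) hY' (cls_back φ hX hY ⟨t, et⟩ hT') r' hr'
  obtain ⟨ak, hak⟩ := exists_move φ (g := uk) hY' hη ak' (by simp [uk])
  obtain ⟨νk, hνkm, hνk⟩ := (fibGrpd_fac hY r ν (eqToHom ez ≫ cn.π.app k ≫ eqToHom Y.2.symm) (by
    rw [hν, hr]; simp [reassoc_of% (cn.w φk)])).exists
  obtain ⟨γ, hγm, hγ⟩ := (fibGrpd_fac hY (νk ≫ ak) a (𝟙 _) (by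
    rw [Category.id_comp, 𝒴.p.map_comp, hνkm, hak]
    simp [reassoc_of% huk, u])).exists
  obtain ⟨l, ψl, tl, el, rl, νl, δ, hrl, hνlm, hνlr, hδm, hδ⟩ :=
    hA D cn hcn hD hpt k Y.1 z Y.2 ez νk γ hνkm hγm
  refine ⟨l, ψl ≫ φk, tl, el, rl ≫ r, νl, δ ≫ rl ≫ ak, ?_, hνlm, ?_, ?_⟩
  · rw [𝒴.p.map_comp, hrl, hr, D.map_comp]; simp
  · rw [← Category.assoc, hνlr, hνk]
  · rw [← reassoc_of% hδ, ← Category.assoc νl, hνlr, hγ]

end Groth.Agent.IsoNatLib.Chart
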