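import Groth.Agent.IsoNatLib.Chart.TransferLim
import Groth.Agent.IsoNatLib.Tangent.Detect

/-!
# Infinitesimal rigidity of a chart is read on isomorphism classes
-/

set_option autoImplicit false
set_option linter.style.haveILetI false
set_option backward.isDefEq.respectTransparency false
set_option backward.isDefEq.respectTransparency.types false

universe u

open CategoryTheory CategoryTheory.Limits AlgebraicGeometry Opposite FibCat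
open Groth.Agent.Stk19 Groth.Agent.Desc19 Groth.Agent.IsoNatLib.Twist
open Groth.Agent.IsoNatLib.Tangent

namespace Groth.Agent.IsoNatLib.Chart

variable {S : Scheme.{u}} {𝒳 𝒴 : AlgSt.Cat S}

/-- Arrows agreeing at the origin of a bent line lie over the same morphism. -/
theorem map_eq_aux (hX : Stk.IsStack (AlgSp.J S) 𝒳) (hY : Stk.IsStack (AlgSp.J S) 𝒴)
    (hdX : AlgSt.RepByAlgSpWith AlgSp.IsSeparatedMor (FibCat.diag (toSelf 𝒳))) (φ : IsoNat.FIso 𝒳 𝒴)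
    {η : 𝒴.obj} {ξ : 𝒳.p.Fiber (𝒴.p.obj η)}
    (hη : φ.toEquiv _ (IsoNat.cls ξ) = IsoNat.cls (⟨η, rfl⟩ : 𝒴.p.Fiber _)) (R : Rig ξ.1)
    {T T₀ B A₁ D : Over S} {j : T₀ ⟶ T} {σ : T ⟶ B} {p : B ⟶ T} {σ₀ : T₀ ⟶ A₁} {p₀ : A₁ ⟶ T₀} {jB : A₁ ⟶ B}
    {d : D ⟶ A₁} (G : Bend j σ p σ₀ p₀ jB d) (hj : Function.Surjective j.left) (t z₀ : 𝒴.obj)
    (et : 𝒴.p.obj t = T) (e₀ : 𝒴.p.obj z₀ = T₀) (ν : z₀ ⟶ t) (f : Bool → (t ⟶ η))
    (hν : 𝒴.p.map ν = eqToHom e₀ ≫ j ≫ eqToHom et.symm) (hf : ν ≫ f false = ν ≫ f true) :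
    𝒴.p.map (f false) = 𝒴.p.map (f true) := by
  subst et e₀
  simp only [eqToHom_refl, Category.id_comp, Category.comp_id] at hν
  let ψ := symmFIso φ hX.1 hY.1
  have h := hY.1
  have hηψ : ψ.toEquiv _ (IsoNat.cls (⟨η, rfl⟩ : 𝒴.p.Fiber _)) = IsoNat.cls ξ := by
    show (φ.toEquiv _).symm _ = _
    rw [← hη, Equiv.symm_apply_apply]
  haveI := G.open₀
  haveI := G.open₁
  let u : Bool → (𝒴.p.obj t ⟶ 𝒴.p.obj η) := fun b => 𝒴.p.map (f b)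
  have hu : j ≫ u false = j ≫ u true := by
    rw [← hν, ← 𝒴.p.map_comp, ← 𝒴.p.map_comp, hf]
  let e : D ⟶ B := d ≫ jB
  -- the doubled line carries one arrow to the chart
  obtain ⟨P, ι₁, ι₂, hP, hdP⟩ := exists_doubled e
  let ι : Bool → (B ⟶ P) := fun b => if b then ι₂ else ι₁
  obtain ⟨πP, hπ₁, hπ₂⟩ := hdP p p rfl
  have hπP : ∀ b, ι b ≫ πP = p := fun b => by cases b <;> simp [ι, hπ₁, hπ₂]
  obtain ⟨g, hg₁, hg₂⟩ := hdP (p ≫ u false) (p ≫ u true) (by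
    show (d ≫ jB) ≫ p ≫ u false = (d ≫ jB) ≫ p ≫ u true
    simp [reassoc_of% G.hp, hu])
  have hg : ∀ b, ι b ≫ g = p ≫ u b := fun b => by cases b <;> simp [ι, hg₁, hg₂]
  obtain ⟨x, π', ex, hπ'⟩ := fibGrpd_lift h t πP
  obtain ⟨yB, ρ, eB, hρ⟩ := fibGrpd_lift h t p
  choose n hn _ using fun b => fibGrpd_fac h π' ρ (eqToHom eB ≫ ι b ≫ eqToHom ex.symm) (by
    rw [hπ', hρ]; simp [hπP])
  obtain ⟨zD, δ, eD, hδ⟩ := fibGrpd_lift h yB (e ≫ eqToHom eB.symm)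
  obtain ⟨z', hz'm, hz'⟩ := (fibGrpd_fac h ν (δ ≫ ρ) (eqToHom eD ≫ d ≫ p₀) (by
    rw [hν, 𝒴.p.map_comp, hδ, hρ]; simp [e, G.hp])).exists
  obtain ⟨ηP, aP, eP, haP⟩ := fibGrpd_lift h η g
  choose α hα _ using fun b => fibGrpd_fac h aP (ρ ≫ f b) (eqToHom eB ≫ ι b ≫ eqToHom eP.symm) (by
    rw [haP, 𝒴.p.map_comp, hρ]; simp [hg, u])
  obtain ⟨χ, hχ, -, -⟩ := exists_of_charts hY hP ex eP eD (z := fun _ : Bool => yB) (fun _ => eB) n α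
    (fun _ => δ) (fun b => by rw [(hn b).1]) (fun b => by rw [(hα b).1]) (fun _ => hδ)
    (fibGrpd_ext h π' (by
        simp only [𝒴.p.map_comp, (hn _).1, hδ]
        simp [ι, reassoc_of% hP.sq.w]) (by simp only [Category.assoc, (hn _).2]))
    (fibGrpd_ext h aP (by
        simp only [𝒴.p.map_comp, (hα _).1, hδ]
        simp [ι, reassoc_of% hP.sq.w]) (by
        simp only [Category.assoc, (hα _).2]
        rw [← reassoc_of% hz', ← reassoc_of% hz', hf]))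
  have mx : 𝒴.p.map (χ ≫ aP) = eqToHom ex ≫ g := by rw [𝒴.p.map_comp, hχ, haP]; simp
  -- read in the other stack
  have h' := hX.1
  let Xx := rep ψ (⟨x, ex⟩ : 𝒴.p.Fiber P)
  let A := rep ψ (⟨t, rfl⟩ : 𝒴.p.Fiber _)
  let Z := rep ψ (⟨z₀, rfl⟩ : 𝒴.p.Fiber _)
  have hXx := (cls_rep ψ (⟨x, ex⟩ : 𝒴.p.Fiber P)).symm
  have hA := (cls_rep ψ (⟨t, rfl⟩ : 𝒴.p.Fiber _)).symm
  have hZ := (cls_rep ψ (⟨z₀, rfl⟩ : 𝒴.p.Fiber _)).symm
  obtain ⟨G', hG'⟩ := exists_move ψ (g := g) hXx hηψ (χ ≫ aP) (by rw [mx]; simp)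
  obtain ⟨Pm, hPm'⟩ := exists_move ψ (g := πP) hXx hA π' (by rw [hπ']; simp)
  obtain ⟨ν', hν'⟩ := exists_move ψ (g := j) hZ hA ν (by rw [hν]; simp)
  choose ω hω _ using fun b => fibGrpd_fac h' Pm (𝟙 A.1) (eqToHom A.2 ≫ σ ≫ ι b ≫ eqToHom Xx.2.symm) (by
    rw [hPm', 𝒳.p.map_id]; simp [reassoc_of% (hπP b), reassoc_of% G.sec])
  obtain ⟨XA, κ, eA, hκ⟩ := fibGrpd_lift h' Z.1 (p₀ ≫ eqToHom Z.2.symm)
  choose m hm _ using fun b => fibGrpd_fac h' Pm (κ ≫ ν') (eqToHom eA ≫ jB ≫ ι b ≫ eqToHom Xx.2.symm) (by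
    rw [hPm', 𝒳.p.map_comp, hκ, hν']; simp [reassoc_of% (hπP b), reassoc_of% G.hp])
  obtain ⟨XD, δX, eXD, hδX⟩ := fibGrpd_lift h' XA (d ≫ eqToHom eA.symm)
  have hD : δX ≫ m false = δX ≫ m true := fibGrpd_ext h' Pm (by
    simp only [𝒳.p.map_comp, (hm _).1, hδX]
    simp [ι, show d ≫ jB ≫ ι₁ = d ≫ jB ≫ ι₂ by simpa [e] using hP.sq.w,
      reassoc_of% (show d ≫ jB ≫ ι₁ = d ≫ jB ≫ ι₂ by simpa [e] using hP.sq.w)])
    (by simp only [Category.assoc, (hm _).2])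
  have hAA : m false ≫ G' = m true ≫ G' := by
    refine hom_ext_of_dominant h' hdX _ _ ?_ δX ?_ (by rw [reassoc_of% hD])
    · simp only [𝒳.p.map_comp, (hm _).1, hG']
      simp only [Category.assoc, eqToHom_trans_assoc, eqToHom_refl, Category.id_comp, reassoc_of% (hg false),
        reassoc_of% (hg true)]
      simp [reassoc_of% G.hp, reassoc_of% hu]
    · rw [hδX]
      intro E i _ l hl
      subst eA eXD
      exact G.dom i l (by simpa using hl)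
  obtain ⟨ω₀, hω₀m, hω₀⟩ := (fibGrpd_fac h' κ (𝟙 Z.1) (eqToHom Z.2 ≫ σ₀ ≫ eqToHom eA.symm) (by
    rw [hκ, 𝒳.p.map_id]; simp [reassoc_of% G.sec₀])).exists
  have hωm : ∀ b, ν' ≫ ω b = ω₀ ≫ m b := fun b => fibGrpd_ext h' Pm (by
      simp only [𝒳.p.map_comp, hν', (hω b).1, hω₀m, (hm b).1]
      simp [reassoc_of% G.hσ]) (by
      simp only [Category.assoc, (hω b).2, (hm b).2, reassoc_of% hω₀]
      exact Category.comp_id ν')
  have hj' : Function.Surjective (𝒳.p.map ν').left := by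
    rw [hν', Over.comp_left, Over.comp_left]
    haveI : Surjective j.left := ⟨hj⟩
    exact (inferInstance : Surjective ((eqToHom Z.2).left ≫ j.left ≫ (eqToHom A.2.symm).left)).1
  have := R (ω false ≫ G') (ω true ≫ G') ν' hj' (by rw [reassoc_of% (hωm false), reassoc_of% (hωm true), hAA])
  have h1 := congrArg 𝒳.p.map this
  simp only [𝒳.p.map_comp, (hω _).1, hG', Category.assoc, eqToHom_trans_assoc, eqToHom_refl, Category.id_comp,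
    reassoc_of% (hg false), reassoc_of% (hg true), reassoc_of% G.sec] at h1
  exact (cancel_mono (eqToHom ξ.2.symm)).1 ((cancel_epi (eqToHom A.2)).1 h1)

theorem eqToHom_conj {Z A A' T T' : Over S} (ez : Z = A) (e : A = A') (et : T' = T) (f : A ⟶ T) (g : A' ⟶ T)
    (hd : f = eqToHom e ≫ g) : eqToHom ez ≫ f ≫ eqToHom et.symm = eqToHom (ez.trans e) ≫ g ≫ eqToHom et.symm := by
  subst hd ez e
  simp

theorem map_eq_dual (hX : Stk.IsStack (AlgSp.J S) 𝒳) (hY : Stk.IsStack (AlgSp.J S) 𝒴)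
    (hdX : AlgSt.RepByAlgSpWith AlgSp.IsSeparatedMor (FibCat.diag (toSelf 𝒳))) (φ : IsoNat.FIso 𝒳 𝒴)
    {η : 𝒴.obj} {ξ : 𝒳.p.Fiber (𝒴.p.obj η)}
    (hη : φ.toEquiv _ (IsoNat.cls ξ) = IsoNat.cls (⟨η, rfl⟩ : 𝒴.p.Fiber _)) (R : Rig ξ.1)
    (K : Type u) [Field K] (j₀ : Spec (CommRingCat.of K) ⟶ S) (a z : 𝒴.obj) (ea : 𝒴.p.obj a = dT j₀)
    (ez : 𝒴.p.obj z = Over.mk j₀) (ν : z ⟶ a) (f f' : a ⟶ η)
    (hν : 𝒴.p.map ν = eqToHom ez ≫ dι j₀ ≫ eqToHom ea.symm) (hff : ν ≫ f = ν ≫ f') :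
    𝒴.p.map f = 𝒴.p.map f' := by
  let π := (TrivSqZeroExt.fstHom K K K).toRingHom
  have hπ : Function.Surjective π := fun r => ⟨TrivSqZeroExt.inl r, TrivSqZeroExt.fst_inl K r⟩
  let j : Spec (CommRingCat.of (DualNumber K)) ⟶ S := proj K ≫ j₀
  have hh : Spec.map (CommRingCat.ofHom (fstR K)) ≫ j = j₀ := by
    show clPt K ≫ proj K ≫ j₀ = j₀
    rw [← Category.assoc, clPt_proj, Category.id_comp]
  have hsq : RingHom.ker π ^ 2 = ⊥ := by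
    rw [pow_two, eq_bot_iff, Ideal.mul_le]
    intro r hr s hs
    have h1 : TrivSqZeroExt.fst r = 0 := hr
    have h2 : TrivSqZeroExt.fst s = 0 := hs
    exact (Ideal.mem_bot).2 (TrivSqZeroExt.ext (by simp [h1]) (by simp [h1, h2]))
  obtain ⟨B, A₁, D, σ, p, σ₀, p₀, jB, d, G⟩ := exists_bend π hπ hsq j
  have e' : Over.mk j₀ = Over.mk (Spec.map (CommRingCat.ofHom π) ≫ j) := congrArg Over.mk hh.symm
  refine map_eq_aux hX hY hdX φ hη R G ?_ a z ea (ez.trans e') ν (fun b => if b then f' else f) ?_ hff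
  · intro q
    obtain ⟨q', hq'⟩ : q ∈ Set.range (PrimeSpectrum.comap π) := by
      rw [range_comap_of_surjective _ _ hπ]
      intro r hr
      have hr2 : r * r = 0 := by
        have h1 : TrivSqZeroExt.fst r = 0 := hr
        exact TrivSqZeroExt.ext (by simp [h1]) (by simp [h1])
      exact (q.isPrime.mem_or_mem (hr2 ▸ Ideal.zero_mem _)).elim id id
    exact ⟨q', hq'⟩
  · have hd : dι j₀ = eqToHom e' ≫ AlgSpLib.surjPt π j := Over.OverMorphism.ext (by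
      rw [Over.comp_left, Over.eqToHom_left, eqToHom_refl, Category.id_comp]
      rfl)
    exact hν.trans (eqToHom_conj ez e' ea (dι j₀) (AlgSpLib.surjPt π j) hd)

theorem aut_eq_id_dual (hY : Stk.IsStack (AlgSp.J S) 𝒴)
    (hdY : AlgSt.RepByAlgSpWith AlgSp.IsSeparatedMor (FibCat.diag (toSelf 𝒴)))
    (K : Type u) [Field K] (j₀ : Spec (CommRingCat.of K) ⟶ S) (a a₀ z : 𝒴.obj) (ea : 𝒴.p.obj a = dT j₀)
    (e₀ : 𝒴.p.obj a₀ = Over.mk j₀) (ez : 𝒴.p.obj z = Over.mk j₀) (ν₀ : a ⟶ a₀) (ν : z ⟶ a) (χ : a ⟶ a)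
    (hν₀ : 𝒴.p.map ν₀ = eqToHom ea ≫ dπ j₀ ≫ eqToHom e₀.symm)
    (hν : 𝒴.p.map ν = eqToHom ez ≫ dι j₀ ≫ eqToHom ea.symm) (hχm : 𝒴.p.map χ = 𝟙 _) (hνχ : ν ≫ χ = ν)
    (H : TCAt (⟨a₀, e₀⟩ : 𝒴.p.Fiber (Over.mk j₀))) : χ = 𝟙 a := by
  let j : Spec (CommRingCat.of (DualNumber K)) ⟶ S := proj K ≫ j₀
  have hh : Spec.map (CommRingCat.ofHom (fstR K)) ≫ j = j₀ := by
    show clPt K ≫ proj K ≫ j₀ = j₀
    rw [← Category.assoc, clPt_proj, Category.id_comp]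
  have hh' : Spec.map (CommRingCat.ofHom (inlR K)) ≫ j₀ = j := rfl
  haveI : IsOpenImmersion (stdI j₀).left := (crossing_std j₀).open_i
  exact aut_eq_id_of_tc hY hdY (crossing_std j) (crossing_std j₀).cover
    (mapA_retract (inlR K) hh' (fstR K) hh (fstR_inlR K))
    (mapO_surjective _ hh (axesMap_fst_surjective K) (axesMap_fst_ker K)) (mapO_comp (fstR K) hh)
    (mapD (fstR K) hh) (mapD_comp (fstR K) hh) (mapA_stdL (inlR K) hh' (dπ j₀) rfl).symm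
    (mapA_stdL (fstR K) hh (dι j₀) rfl) ea e₀ ez ν₀ ν χ hν₀ hν hχm hνχ H

theorem tangRig_transfer (hX : Stk.IsStack (AlgSp.J S) 𝒳) (hY : Stk.IsStack (AlgSp.J S) 𝒴)
    (hdX : AlgSt.RepByAlgSpWith AlgSp.IsSeparatedMor (FibCat.diag (toSelf 𝒳)))
    (hdY : AlgSt.RepByAlgSpWith AlgSp.IsSeparatedMor (FibCat.diag (toSelf 𝒴))) (φ : IsoNat.FIso 𝒳 𝒴)
    {U : Over S} {ξ : 𝒳.p.Fiber U} {η : 𝒴.p.Fiber U} (hη : φ.toEquiv U (IsoNat.cls ξ) = IsoNat.cls η)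
    (R : Rig ξ.1) : TangRig η.1 := by
  intro K _ j₀ a a₀ z ea e₀ ez ν₀ ν f f' hν₀ hν hff
  obtain ⟨η, eη⟩ := η
  subst eη
  have h := hY.1
  have hm := map_eq_dual hX hY hdX φ hη R K j₀ a z ea ez ν f f' hν hff
  obtain ⟨χ, hχm, hχ⟩ := (fibGrpd_fac h f f' (𝟙 _) ((Category.id_comp _).trans hm)).exists
  have hνχ : ν ≫ χ = ν := fibGrpd_ext h f (by rw [𝒴.p.map_comp, hχm, Category.comp_id])
    (by rw [Category.assoc, hχ, hff])
  have mz : 𝒴.p.map (ν ≫ ν₀) = eqToHom (ez.trans e₀.symm) := by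
    rw [𝒴.p.map_comp, hν, hν₀]
    have : dι j₀ ≫ dπ j₀ = 𝟙 _ := Over.OverMorphism.ext (clPt_proj K)
    simp [reassoc_of% this]
  haveI : IsIso (ν ≫ ν₀) := by
    have : IsIso (𝒴.p.map (ν ≫ ν₀)) := by rw [mz]; infer_instance
    exact fibGrpd_isIso h _
  let ψ := symmFIso φ hX.1 h
  have hηψ : ψ.toEquiv _ (IsoNat.cls (⟨η, rfl⟩ : 𝒴.p.Fiber _)) = IsoNat.cls ξ := by
    show (φ.toEquiv _).symm _ = _
    rw [← hη, Equiv.symm_apply_apply]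
  let f₀ : a₀ ⟶ η := inv (ν ≫ ν₀) ≫ ν ≫ f
  obtain ⟨F₀, -⟩ := exists_move ψ (g := eqToHom e₀.symm ≫ 𝒴.p.map f₀)
    (cls_rep ψ (⟨a₀, e₀⟩ : 𝒴.p.Fiber _)).symm hηψ f₀ (by simp)
  have H : TCAt (⟨a₀, e₀⟩ : 𝒴.p.Fiber (Over.mk j₀)) :=
    tcAt_of_fIso hX.1 h φ _ (tcAt_of_sep hX _ fun g g' μ hg hμ hgg => by
      refine fibGrpd_ext hX.1 F₀ hg (R _ _ μ hμ ?_)
      rw [reassoc_of% hgg])
  rw [← hχ, aut_eq_id_dual hY hdY K j₀ a a₀ z ea e₀ ez ν₀ ν χ hν₀ hν hχm hνχ H, Category.id_comp]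

end Groth.Agent.IsoNatLib.Chart
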